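import Mathlib
import Cfsg.Agent.Lib.helper17.SLP.Defs
import Cfsg.Agent.Lib.helper7.StH

/-!
# Project SLN (designer helper17): S2290 (10u).  Every `PSL_n(F)` (`F` a finite field, `n ≥ 2`, `q ≥ 4` if `n = 2`)
has a presentation with 2 generators and at most 80 relations.

`n = 2`: project SLP (S2286).  `n = 3`: project SL3 (`sl3x_main`, all finite `F`).  `n ≥ 4` (this project): a presentation of
`SL_n(F)` on FIVE generators `a b u h w`: `a b` = the generators of a bounded presentation of `A_n` (S2284, `≤ 8` relators),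
`u h w` = the SLP generators of the `SL₂(F)` on the indices `o0 o1` (`≤ 9` relators) and 28 gluing relators.

In an abstract group `G` everything is phrased through two homomorphisms `ν : A_n →* G`, `φ : SL₂(F) →* G`:
`phiR i j = conj (ν σ) ∘ φ` for a (chosen) `σ ∈ A_n` with `σ o0 = i`, `σ o1 = j`; `xr i j t = phiR i j (xM t)` are the root
elements, `hr i j s = phiR i j (hM s)`, `wr i j = phiR i j wM`.  Under the hypothesis bundle `Glue` the `xr i j t` form an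
abstract Steinberg system `Sys F ι G` of helper7's library `St` (landed with S2401) which generates `G`; `Sys.Rep.injective`
(general rank, no Bruhat count) then identifies the presented group with `SL_n(F)`.

This file: `yM swM` (lower unipotent, swap automorphism of `SL₂`), the four base points `Pts`, the root maps, `Glue`,
the matrix side (`permSL`, `rhoF`, `rho`), the words in `FreeGroup (Fin 5)`.
-/

set_option autoImplicit false

namespace Cfsg.Agent.Lib.helper17.SLN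

open Cfsg.Agent.Lib.helper17.SLP

universe u v w

/-! ## `SL₂`: lower unipotents and the swap automorphism -/

section SL2

variable {F : Type u} [Field F]

/-- `y(t) = [[1,0],[t,1]]`. -/
def yM (t : F) : Matrix.SpecialLinearGroup (Fin 2) F :=
  ⟨!![1, 0; t, 1], by simp [Matrix.det_fin_two_of]⟩

/-- the swap automorphism `M ↦ P M P`, `P = [[0,1],[1,0]]` (as a function). -/
def swM (m : Matrix.SpecialLinearGroup (Fin 2) F) : Matrix.SpecialLinearGroup (Fin 2) F :=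
  ⟨!![m.1 1 1, m.1 1 0; m.1 0 1, m.1 0 0], by
    have h := m.2
    rw [Matrix.det_fin_two] at h
    rw [Matrix.det_fin_two_of]
    linear_combination h⟩

end SL2

/-! ## base points -/

/-- four distinct indices. -/
structure Pts (ι : Type w) where
  o0 : ι
  o1 : ι
  o2 : ι
  o3 : ι
  h01 : o0 ≠ o1
  h02 : o0 ≠ o2
  h03 : o0 ≠ o3
  h12 : o1 ≠ o2
  h13 : o1 ≠ o3
  h23 : o2 ≠ o3

/-- the 3-cycle `a ↦ b ↦ c ↦ a` (for distinct `a b c`). -/
def cyc3 {ι : Type w} [DecidableEq ι] (a b c : ι) : Equiv.Perm ι := Equiv.swap a b * Equiv.swap b c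

/-- the base points `0 1 2 3` of `Fin n`, `n ≥ 4`. -/
def ptsFin (n : ℕ) (hn : 4 ≤ n) : Pts (Fin n) where
  o0 := ⟨0, by omega⟩
  o1 := ⟨1, by omega⟩
  o2 := ⟨2, by omega⟩
  o3 := ⟨3, by omega⟩
  h01 := by simp [Fin.ext_iff]
  h02 := by simp [Fin.ext_iff]
  h03 := by simp [Fin.ext_iff]
  h12 := by simp [Fin.ext_iff]
  h13 := by simp [Fin.ext_iff]
  h23 := by simp [Fin.ext_iff]

/-! ## root maps in an abstract group -/

section Roots

variable {F : Type u} [Field F] {ι : Type w} [Fintype ι] [DecidableEq ι] {G : Type v} [Group G]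

open Classical in
/-- a chosen even permutation with `o0 ↦ i`, `o1 ↦ j` (`1` if there is none). -/
noncomputable def sig (p : Pts ι) (i j : ι) : alternatingGroup ι :=
  if h : ∃ σ : alternatingGroup ι, (σ : Equiv.Perm ι) p.o0 = i ∧ (σ : Equiv.Perm ι) p.o1 = j
  then h.choose else 1

/-- `φ` conjugated by `ν σ`. -/
def phiC (ν : alternatingGroup ι →* G) (φ : Matrix.SpecialLinearGroup (Fin 2) F →* G)
    (σ : alternatingGroup ι) : Matrix.SpecialLinearGroup (Fin 2) F →* G :=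
  (MulAut.conj (ν σ)).toMonoidHom.comp φ

/-- the `SL₂` of the ordered pair `(i, j)`. -/
noncomputable def phiR (p : Pts ι) (ν : alternatingGroup ι →* G)
    (φ : Matrix.SpecialLinearGroup (Fin 2) F →* G) (i j : ι) :
    Matrix.SpecialLinearGroup (Fin 2) F →* G :=
  phiC ν φ (sig p i j)

/-- the root element `x_ij(t)` (`1` on the diagonal, as in `Sys`). -/
noncomputable def xr (p : Pts ι) (ν : alternatingGroup ι →* G)
    (φ : Matrix.SpecialLinearGroup (Fin 2) F →* G) (i j : ι) (t : F) : G :=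
  if i = j then 1 else phiR p ν φ i j (xM t)

/-- `h_ij(s)`. -/
noncomputable def hr (p : Pts ι) (ν : alternatingGroup ι →* G)
    (φ : Matrix.SpecialLinearGroup (Fin 2) F →* G) (i j : ι) (s : Fˣ) : G :=
  phiR p ν φ i j (hM s)

/-- `w_ij`. -/
noncomputable def wr (p : Pts ι) (ν : alternatingGroup ι →* G)
    (φ : Matrix.SpecialLinearGroup (Fin 2) F →* G) (i j : ι) : G :=
  phiR p ν φ i j wM

/-- `g` acts on the root map `X` through multiplication by `c`. -/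
def Act (g : G) (X : F → G) (c : F) : Prop := ∀ t, g * X t * g⁻¹ = X (c * t)

/-- The gluing hypotheses (`ζ` a generator of `Fˣ`). -/
structure Glue (p : Pts ι) (ζ : Fˣ) (ν : alternatingGroup ι →* G)
    (φ : Matrix.SpecialLinearGroup (Fin 2) F →* G) : Prop where
  /-- the pointwise stabiliser of `o0 o1` centralises `φ` -/
  stab1 : ∀ σ : alternatingGroup ι, (σ : Equiv.Perm ι) p.o0 = p.o0 → (σ : Equiv.Perm ι) p.o1 = p.o1 →
    ∀ m, ν σ * φ m * (ν σ)⁻¹ = φ m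
  /-- an even permutation swapping `o0 o1` acts through the swap automorphism -/
  stab2 : ∀ σ : alternatingGroup ι, (σ : Equiv.Perm ι) p.o0 = p.o1 → (σ : Equiv.Perm ι) p.o1 = p.o0 →
    ∀ m, ν σ * φ m * (ν σ)⁻¹ = φ (swM m)
  /-- `[L_01, L_23] = 1` -/
  disj : ∀ m m', Commute (phiR p ν φ p.o0 p.o1 m) (phiR p ν φ p.o2 p.o3 m')
  /-- `[h_01, h_02] = 1` -/
  T1 : Commute (hr p ν φ p.o0 p.o1 ζ) (hr p ν φ p.o0 p.o2 ζ)
  /-- `[h_01, h_12] = 1` -/
  T1' : Commute (hr p ν φ p.o0 p.o1 ζ) (hr p ν φ p.o1 p.o2 ζ)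
  /-- `h_02 x_01(1) h_02⁻¹ = x_01(ζ)` -/
  T2 : hr p ν φ p.o0 p.o2 ζ * xr p ν φ p.o0 p.o1 1 * (hr p ν φ p.o0 p.o2 ζ)⁻¹ = xr p ν φ p.o0 p.o1 (ζ : F)
  /-- `h_12 x_01(1) h_12⁻¹ = x_01(ζ⁻¹)` -/
  T3 : hr p ν φ p.o1 p.o2 ζ * xr p ν φ p.o0 p.o1 1 * (hr p ν φ p.o1 p.o2 ζ)⁻¹ =
    xr p ν φ p.o0 p.o1 ((ζ⁻¹ : Fˣ) : F)
  /-- `h_12 x_10(1) h_12⁻¹ = x_10(ζ)` -/
  T2m : hr p ν φ p.o1 p.o2 ζ * xr p ν φ p.o1 p.o0 1 * (hr p ν φ p.o1 p.o2 ζ)⁻¹ = xr p ν φ p.o1 p.o0 (ζ : F)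
  /-- `h_02 x_10(1) h_02⁻¹ = x_10(ζ⁻¹)` -/
  T3m : hr p ν φ p.o0 p.o2 ζ * xr p ν φ p.o1 p.o0 1 * (hr p ν φ p.o0 p.o2 ζ)⁻¹ =
    xr p ν φ p.o1 p.o0 ((ζ⁻¹ : Fˣ) : F)
  /-- `[x_01(1), x_12(1)] = x_02(1)` -/
  C1 : cm (xr p ν φ p.o0 p.o1 1) (xr p ν φ p.o1 p.o2 1) = xr p ν φ p.o0 p.o2 1
  /-- `[x_01(1), x_02(1)] = 1` -/
  C2 : Commute (xr p ν φ p.o0 p.o1 1) (xr p ν φ p.o0 p.o2 1)
  /-- `[x_01(1), x_21(1)] = 1` -/
  C3 : Commute (xr p ν φ p.o0 p.o1 1) (xr p ν φ p.o2 p.o1 1)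
  /-- `[x_10(1), x_02(1)] = x_12(1)` -/
  C1m : cm (xr p ν φ p.o1 p.o0 1) (xr p ν φ p.o0 p.o2 1) = xr p ν φ p.o1 p.o2 1
  /-- `[x_10(1), x_12(1)] = 1` -/
  C2m : Commute (xr p ν φ p.o1 p.o0 1) (xr p ν φ p.o1 p.o2 1)
  /-- `[x_10(1), x_20(1)] = 1` -/
  C3m : Commute (xr p ν φ p.o1 p.o0 1) (xr p ν φ p.o2 p.o0 1)
  /-- the 3-cycle `o0 ↦ o2 ↦ o1 ↦ o0` is `w_12 w_01` -/
  gen : ∀ c : alternatingGroup ι, (c : Equiv.Perm ι) = cyc3 p.o0 p.o2 p.o1 →
    ν c = wr p ν φ p.o1 p.o2 * wr p ν φ p.o0 p.o1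

end Roots

/-! ## the matrix side -/

section Mat

open Matrix

variable {F : Type u} [Field F] {ι : Type w} [Fintype ι] [DecidableEq ι]

/-- even permutations as permutation matrices: `permSL σ * e_j = e_(σ j)`. -/
def permSL : alternatingGroup ι →* Matrix.SpecialLinearGroup ι F where
  toFun σ := ⟨((σ : Equiv.Perm ι)⁻¹).permMatrix F, by
    rw [Matrix.det_permutation, Equiv.Perm.sign_inv, Equiv.Perm.mem_alternatingGroup.mp σ.2]
    simp⟩
  map_one' := by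
    apply Subtype.ext
    show (((1 : alternatingGroup ι) : Equiv.Perm ι)⁻¹).permMatrix F = 1
    simp
  map_mul' σ τ := by
    apply Subtype.ext
    show (((σ * τ : alternatingGroup ι) : Equiv.Perm ι)⁻¹).permMatrix F
      = ((σ : Equiv.Perm ι)⁻¹).permMatrix F * ((τ : Equiv.Perm ι)⁻¹).permMatrix F
    rw [Subgroup.coe_mul, _root_.mul_inv_rev, Matrix.permMatrix_mul]

/-- the two base points as a map `Fin 2 → ι`. -/
def Pts.o (p : Pts ι) : Fin 2 → ι := ![p.o0, p.o1]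

/-- the pair `(i, j)` as a map `Fin 2 → ι`. -/
def pr (i j : ι) : Fin 2 → ι := ![i, j]

omit [Fintype ι] [DecidableEq ι] in
theorem pr_injective {i j : ι} (hij : i ≠ j) : Function.Injective (pr i j) := by
  intro a b h
  fin_cases a <;> fin_cases b <;> simp [pr] at h ⊢ <;>
    first | exact absurd h hij | exact absurd h.symm hij

omit [Fintype ι] [DecidableEq ι] in
theorem Pts.o_injective (p : Pts ι) : Function.Injective p.o := pr_injective p.h01

/-- the inclusion matrix `C i a = [i = f a]`. -/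
def incl (F : Type u) [Field F] (f : Fin 2 → ι) : Matrix ι (Fin 2) F :=
  Matrix.of fun i a => if i = f a then 1 else 0

/-- the matrix of the embedded `SL₂`: `M` on the coordinates `f 0`, `f 1`, identity elsewhere. -/
def rhoM (f : Fin 2 → ι) (M : Matrix (Fin 2) (Fin 2) F) : Matrix ι ι F :=
  1 + incl F f * (M - 1) * (incl F f)ᵀ

theorem incl_tr_mul (f : Fin 2 → ι) (hf : Function.Injective f) : (incl F f)ᵀ * incl F f = 1 := by
  ext a b
  simp only [Matrix.mul_apply, Matrix.transpose_apply, incl, Matrix.of_apply, Matrix.one_apply]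
  rw [Finset.sum_eq_single (f a)]
  · by_cases hab : a = b
    · subst hab; simp
    · have : f a ≠ f b := fun h => hab (hf h)
      simp [hab, this]
  · intro j _ hj; simp [hj]
  · intro h; exact absurd (Finset.mem_univ _) h

theorem rhoM_mul (f : Fin 2 → ι) (hf : Function.Injective f) (M N : Matrix (Fin 2) (Fin 2) F) :
    rhoM f (M * N) = rhoM f M * rhoM f N := by
  unfold rhoM
  have h := incl_tr_mul (F := F) f hf
  have e : incl F f * (M - 1) * (incl F f)ᵀ * (incl F f * (N - 1) * (incl F f)ᵀ)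
      = incl F f * ((M - 1) * (N - 1)) * (incl F f)ᵀ := by
    calc incl F f * (M - 1) * (incl F f)ᵀ * (incl F f * (N - 1) * (incl F f)ᵀ)
        = incl F f * (M - 1) * ((incl F f)ᵀ * incl F f) * (N - 1) * (incl F f)ᵀ := by
          simp only [Matrix.mul_assoc]
      _ = _ := by rw [h, Matrix.mul_one]; simp only [Matrix.mul_assoc]
  rw [mul_add, add_mul, add_mul, one_mul, mul_one, one_mul, e]
  have e2 : M * N - 1 = (M - 1) + (N - 1) + (M - 1) * (N - 1) := by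
    noncomm_ring
  rw [e2, Matrix.mul_add, Matrix.mul_add, Matrix.add_mul, Matrix.add_mul]
  abel

theorem rhoM_det (f : Fin 2 → ι) (hf : Function.Injective f) (M : Matrix (Fin 2) (Fin 2) F) :
    (rhoM f M).det = M.det := by
  unfold rhoM
  rw [Matrix.mul_assoc, Matrix.det_one_add_mul_comm, Matrix.mul_assoc, incl_tr_mul f hf, Matrix.mul_one]
  congr 1
  abel

/-- the embedding `SL₂(F) → SL(ι, F)` on the coordinates `f 0`, `f 1`. -/
def rhoF (f : Fin 2 → ι) (hf : Function.Injective f) :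
    Matrix.SpecialLinearGroup (Fin 2) F →* Matrix.SpecialLinearGroup ι F :=
  MonoidHom.mk' (fun M => ⟨rhoM f M.1, by rw [rhoM_det f hf]; exact M.2⟩)
    (fun M N => Subtype.ext (by
      show rhoM f (M * N).1 = rhoM f M.1 * rhoM f N.1
      rw [Matrix.SpecialLinearGroup.coe_mul, rhoM_mul f hf]))

/-- the embedding `SL₂(F) → SL(ι, F)` on the coordinates `o0 o1`. -/
def rho (p : Pts ι) : Matrix.SpecialLinearGroup (Fin 2) F →* Matrix.SpecialLinearGroup ι F :=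
  rhoF p.o p.o_injective

theorem rhoF_coe (f : Fin 2 → ι) (hf : Function.Injective f) (M : Matrix.SpecialLinearGroup (Fin 2) F) :
    ((rhoF f hf M : Matrix.SpecialLinearGroup ι F) : Matrix ι ι F) = rhoM f M.1 := rfl

theorem rho_coe (p : Pts ι) (M : Matrix.SpecialLinearGroup (Fin 2) F) :
    ((rho p M : Matrix.SpecialLinearGroup ι F) : Matrix ι ι F) = rhoM p.o M.1 := rfl

theorem permSL_coe (σ : alternatingGroup ι) :
    ((permSL σ : Matrix.SpecialLinearGroup ι F) : Matrix ι ι F) = ((σ : Equiv.Perm ι)⁻¹).permMatrix F := rfl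

end Mat

/-! ## words in `FreeGroup (Fin 5)` (generators `a b u h w`) -/

section Free

variable {G : Type u} [Group G]

/-- evaluation of a word of `FreeGroup (Fin 5)` at `a b u h w`. -/
def ev5 (a b u h w : G) : FreeGroup (Fin 5) →* G := FreeGroup.lift ![a, b, u, h, w]

/-- evaluation of a word of `FreeGroup (Fin 2)` at `a b`. -/
def ev2 (a b : G) : FreeGroup (Fin 2) →* G := FreeGroup.lift ![a, b]

/-- the copy of `FreeGroup (Fin 2)` on the generators `0 1`. -/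
def inN : FreeGroup (Fin 2) →* FreeGroup (Fin 5) := FreeGroup.map (Fin.castAdd 3)

/-- the copy of `FreeGroup (Fin 3)` on the generators `2 3 4`. -/
def inL : FreeGroup (Fin 3) →* FreeGroup (Fin 5) := FreeGroup.map (Fin.natAdd 2)

end Free

section Words

variable {F : Type u} [Field F] {ι : Type w} [Fintype ι] [DecidableEq ι]

/-- the word of `ν σ * φ m * (ν σ)⁻¹` (`wN`, `wL` = chosen words of the elements of `A_n`, `SL₂(F)`). -/
def Wc (wN : alternatingGroup ι → FreeGroup (Fin 2))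
    (wL : Matrix.SpecialLinearGroup (Fin 2) F → FreeGroup (Fin 3))
    (σ : alternatingGroup ι) (m : Matrix.SpecialLinearGroup (Fin 2) F) : FreeGroup (Fin 5) :=
  inN (wN σ) * inL (wL m) * (inN (wN σ))⁻¹

/-- the word of `phiR i j m`. -/
noncomputable def Wr (p : Pts ι) (wN : alternatingGroup ι → FreeGroup (Fin 2))
    (wL : Matrix.SpecialLinearGroup (Fin 2) F → FreeGroup (Fin 3))
    (i j : ι) (m : Matrix.SpecialLinearGroup (Fin 2) F) : FreeGroup (Fin 5) :=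
  Wc wN wL (sig p i j) m

/-- `swM m` if `σ` swaps `o0 o1`, else `m`. -/
def swIf (p : Pts ι) (σ : alternatingGroup ι) (m : Matrix.SpecialLinearGroup (Fin 2) F) :
    Matrix.SpecialLinearGroup (Fin 2) F :=
  if (σ : Equiv.Perm ι) p.o0 = p.o1 then swM m else m

/-- the three relators "`g` acts on `φ` through `swIf`". -/
def wordsStab (p : Pts ι) (ζ : Fˣ) (wN : alternatingGroup ι → FreeGroup (Fin 2))
    (wL : Matrix.SpecialLinearGroup (Fin 2) F → FreeGroup (Fin 3)) (g : alternatingGroup ι) :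
    List (FreeGroup (Fin 5)) :=
  [Wc wN wL g (xM 1) * (inL (wL (swIf p g (xM 1))))⁻¹,
    Wc wN wL g (hM ζ) * (inL (wL (swIf p g (hM ζ))))⁻¹,
    Wc wN wL g wM * (inL (wL (swIf p g wM)))⁻¹]

/-- the nine relators `[L_01, L_23] = 1`. -/
noncomputable def wordsDisj (p : Pts ι) (ζ : Fˣ) (wN : alternatingGroup ι → FreeGroup (Fin 2))
    (wL : Matrix.SpecialLinearGroup (Fin 2) F → FreeGroup (Fin 3)) : List (FreeGroup (Fin 5)) :=
  [cm (Wr p wN wL p.o0 p.o1 (xM 1)) (Wr p wN wL p.o2 p.o3 (xM 1)),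
    cm (Wr p wN wL p.o0 p.o1 (xM 1)) (Wr p wN wL p.o2 p.o3 (hM ζ)),
    cm (Wr p wN wL p.o0 p.o1 (xM 1)) (Wr p wN wL p.o2 p.o3 wM),
    cm (Wr p wN wL p.o0 p.o1 (hM ζ)) (Wr p wN wL p.o2 p.o3 (xM 1)),
    cm (Wr p wN wL p.o0 p.o1 (hM ζ)) (Wr p wN wL p.o2 p.o3 (hM ζ)),
    cm (Wr p wN wL p.o0 p.o1 (hM ζ)) (Wr p wN wL p.o2 p.o3 wM),
    cm (Wr p wN wL p.o0 p.o1 wM) (Wr p wN wL p.o2 p.o3 (xM 1)),
    cm (Wr p wN wL p.o0 p.o1 wM) (Wr p wN wL p.o2 p.o3 (hM ζ)),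
    cm (Wr p wN wL p.o0 p.o1 wM) (Wr p wN wL p.o2 p.o3 wM)]

/-- the six torus relators `T1 T1' T2 T3 T2m T3m`. -/
noncomputable def wordsTor (p : Pts ι) (ζ : Fˣ) (wN : alternatingGroup ι → FreeGroup (Fin 2))
    (wL : Matrix.SpecialLinearGroup (Fin 2) F → FreeGroup (Fin 3)) : List (FreeGroup (Fin 5)) :=
  [cm (Wr p wN wL p.o0 p.o1 (hM ζ)) (Wr p wN wL p.o0 p.o2 (hM ζ)),
    cm (Wr p wN wL p.o0 p.o1 (hM ζ)) (Wr p wN wL p.o1 p.o2 (hM ζ)),
    Wr p wN wL p.o0 p.o2 (hM ζ) * Wr p wN wL p.o0 p.o1 (xM 1) * (Wr p wN wL p.o0 p.o2 (hM ζ))⁻¹ *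
      (Wr p wN wL p.o0 p.o1 (xM (ζ : F)))⁻¹,
    Wr p wN wL p.o1 p.o2 (hM ζ) * Wr p wN wL p.o0 p.o1 (xM 1) * (Wr p wN wL p.o1 p.o2 (hM ζ))⁻¹ *
      (Wr p wN wL p.o0 p.o1 (xM ((ζ⁻¹ : Fˣ) : F)))⁻¹,
    Wr p wN wL p.o1 p.o2 (hM ζ) * Wr p wN wL p.o1 p.o0 (xM 1) * (Wr p wN wL p.o1 p.o2 (hM ζ))⁻¹ *
      (Wr p wN wL p.o1 p.o0 (xM (ζ : F)))⁻¹,
    Wr p wN wL p.o0 p.o2 (hM ζ) * Wr p wN wL p.o1 p.o0 (xM 1) * (Wr p wN wL p.o0 p.o2 (hM ζ))⁻¹ *
      (Wr p wN wL p.o1 p.o0 (xM ((ζ⁻¹ : Fˣ) : F)))⁻¹]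

/-- the six commutator relators `C1 C2 C3 C1m C2m C3m`. -/
noncomputable def wordsCom (p : Pts ι) (wN : alternatingGroup ι → FreeGroup (Fin 2))
    (wL : Matrix.SpecialLinearGroup (Fin 2) F → FreeGroup (Fin 3)) : List (FreeGroup (Fin 5)) :=
  [cm (Wr p wN wL p.o0 p.o1 (xM 1)) (Wr p wN wL p.o1 p.o2 (xM 1)) * (Wr p wN wL p.o0 p.o2 (xM 1))⁻¹,
    cm (Wr p wN wL p.o0 p.o1 (xM 1)) (Wr p wN wL p.o0 p.o2 (xM 1)),
    cm (Wr p wN wL p.o0 p.o1 (xM 1)) (Wr p wN wL p.o2 p.o1 (xM 1)),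
    cm (Wr p wN wL p.o1 p.o0 (xM 1)) (Wr p wN wL p.o0 p.o2 (xM 1)) * (Wr p wN wL p.o1 p.o2 (xM 1))⁻¹,
    cm (Wr p wN wL p.o1 p.o0 (xM 1)) (Wr p wN wL p.o1 p.o2 (xM 1)),
    cm (Wr p wN wL p.o1 p.o0 (xM 1)) (Wr p wN wL p.o2 p.o0 (xM 1))]

/-- the generation relator `ν c = w_12 w_01`. -/
noncomputable def wordGen (p : Pts ι) (wN : alternatingGroup ι → FreeGroup (Fin 2))
    (wL : Matrix.SpecialLinearGroup (Fin 2) F → FreeGroup (Fin 3)) (c : alternatingGroup ι) :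
    FreeGroup (Fin 5) :=
  inN (wN c) * (Wr p wN wL p.o1 p.o2 wM * Wr p wN wL p.o0 p.o1 wM)⁻¹

/-- the 28 gluing relators (`g₁ g₂` = generators of the stabiliser of `{o0, o1}`, `c` = the 3-cycle). -/
noncomputable def wordsGlue (p : Pts ι) (ζ : Fˣ) (wN : alternatingGroup ι → FreeGroup (Fin 2))
    (wL : Matrix.SpecialLinearGroup (Fin 2) F → FreeGroup (Fin 3)) (g₁ g₂ c : alternatingGroup ι) :
    List (FreeGroup (Fin 5)) :=
  wordsStab p ζ wN wL g₁ ++ wordsStab p ζ wN wL g₂ ++ wordsDisj p ζ wN wL ++ wordsTor p ζ wN wL ++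
    wordsCom p wN wL ++ [wordGen p wN wL c]

end Words

end Cfsg.Agent.Lib.helper17.SLN
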