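import Mathlib
import Cfsg.Agent.Lib.helper17.SLN.Defs

/-!
# SLN rows P1 (`ev5_inN ev5_inL ev5_map ev2_map`) and P2 (`ev5_Wc ev5_Wr`)
-/

set_option autoImplicit false

namespace Cfsg.Agent.Lib.helper17.SLN

open Cfsg.Agent.Lib.helper17.SLP

universe u v w v'

section P

variable {F : Type u} [Field F] {ι : Type w} [Fintype ι] [DecidableEq ι]

theorem ev5_inN {G : Type v} [Group G] (a b u h w : G) (x : FreeGroup (Fin 2)) :
    ev5 a b u h w (inN x) = ev2 a b x := by
  have hh : (ev5 a b u h w).comp inN = ev2 a b := by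
    apply FreeGroup.ext_hom
    intro i
    fin_cases i <;> simp [ev5, ev2, inN]
  exact DFunLike.congr_fun hh x

theorem ev5_inL {G : Type v} [Group G] (a b u h w : G) (x : FreeGroup (Fin 3)) :
    ev5 a b u h w (inL x) = ev u h w x := by
  have hh : (ev5 a b u h w).comp inL = ev u h w := by
    apply FreeGroup.ext_hom
    intro i
    fin_cases i <;> simp [ev5, ev, inL]
  exact DFunLike.congr_fun hh x

theorem ev5_map {G : Type v} {G' : Type v'} [Group G] [Group G'] (f : G →* G') (a b u h w : G)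
    (x : FreeGroup (Fin 5)) : f (ev5 a b u h w x) = ev5 (f a) (f b) (f u) (f h) (f w) x := by
  have hh : f.comp (ev5 a b u h w) = ev5 (f a) (f b) (f u) (f h) (f w) := by
    apply FreeGroup.ext_hom
    intro i
    fin_cases i <;> simp [ev5]
  exact DFunLike.congr_fun hh x

theorem ev2_map {G : Type v} {G' : Type v'} [Group G] [Group G'] (f : G →* G') (a b : G)
    (x : FreeGroup (Fin 2)) : f (ev2 a b x) = ev2 (f a) (f b) x := by
  have hh : f.comp (ev2 a b) = ev2 (f a) (f b) := by
    apply FreeGroup.ext_hom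
    intro i
    fin_cases i <;> simp [ev2]
  exact DFunLike.congr_fun hh x

theorem ev5_Wc {G : Type v} [Group G] (wN : alternatingGroup ι → FreeGroup (Fin 2))
    (wL : Matrix.SpecialLinearGroup (Fin 2) F → FreeGroup (Fin 3)) (a b u h w : G)
    (ν : alternatingGroup ι →* G) (φ : Matrix.SpecialLinearGroup (Fin 2) F →* G)
    (hν : ∀ σ, ν σ = ev2 a b (wN σ)) (hφ : ∀ m, φ m = ev u h w (wL m))
    (σ : alternatingGroup ι) (m : Matrix.SpecialLinearGroup (Fin 2) F) :
    ev5 a b u h w (Wc wN wL σ m) = phiC ν φ σ m := by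
  unfold Wc phiC
  rw [map_mul, map_mul, map_inv, ev5_inN, ev5_inL, ← hν, ← hφ]
  rfl

theorem ev5_Wr {G : Type v} [Group G] (p : Pts ι) (wN : alternatingGroup ι → FreeGroup (Fin 2))
    (wL : Matrix.SpecialLinearGroup (Fin 2) F → FreeGroup (Fin 3)) (a b u h w : G)
    (ν : alternatingGroup ι →* G) (φ : Matrix.SpecialLinearGroup (Fin 2) F →* G)
    (hν : ∀ σ, ν σ = ev2 a b (wN σ)) (hφ : ∀ m, φ m = ev u h w (wL m))
    (i j : ι) (m : Matrix.SpecialLinearGroup (Fin 2) F) :
    ev5 a b u h w (Wr p wN wL i j m) = phiR p ν φ i j m :=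
  ev5_Wc wN wL a b u h w ν φ hν hφ (sig p i j) m

end P

end Cfsg.Agent.Lib.helper17.SLN
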