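import Mathlib
import Cfsg.Agent.Lib.Lead.SLn
import Cfsg.Agent.Lib.Helper24.SLNM1
import Cfsg.Agent.Lib.Helper25.SLNM5
import Cfsg.Agent.Lib.Helper13.SLNM6
import Cfsg.Agent.Lib.Helper13.SLNM7
import Cfsg.Agent.Lib.helper15.SLNM8
import Cfsg.Agent.Lib.Helper25.SLNM12

/-!
# SLN row M13 (`glue_M`), with own-name spares of M9 M10 M11 (`slnm13_xr_M`, `slnm13_hr_M`, `slnm13_tor_M`, `slnm13_com_M`)
-/

set_option autoImplicit false

namespace Cfsg.Agent.Lib.helper17.SLN

open Cfsg.Agent.Lib.helper17.SLP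

universe u v w v'

section M

open Matrix

variable {F : Type u} [Field F] {ι : Type w} [Fintype ι] [DecidableEq ι]

theorem slnm13_rhoF_congr (f g : Fin 2 → ι) (hf : Function.Injective f) (hg : Function.Injective g)
    (h : f = g) (m : Matrix.SpecialLinearGroup (Fin 2) F) :
    (rhoF f hf m : Matrix.SpecialLinearGroup ι F) = rhoF g hg m := by
  subst h
  rfl

theorem slnm13_rhoF_swap (i j : ι) (hij : i ≠ j) (m : Matrix.SpecialLinearGroup (Fin 2) F) :
    (rhoF (pr j i) (pr_injective hij.symm) m : Matrix.SpecialLinearGroup ι F) =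
      rhoF (pr i j) (pr_injective hij) (swM m) := by
  apply Subtype.ext
  rw [rhoF_coe, rhoF_coe]
  ext k l
  simp only [rhoM, incl, pr, swM, Matrix.add_apply, Matrix.mul_apply, Matrix.transpose_apply, Matrix.of_apply,
    Matrix.sub_apply, Matrix.one_apply, Fin.sum_univ_two, Matrix.cons_val_zero, Matrix.cons_val_one]
  by_cases hki : k = i <;> by_cases hkj : k = j <;> by_cases hli : l = i <;> by_cases hlj : l = j <;>
    simp [hki, hkj, hli, hlj, hij, hij.symm]

/-- spare of M9 (`xr_M`). -/
theorem slnm13_xr_M (p : Pts ι) (i j : ι) (hij : i ≠ j) (t : F) :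
    xr p (permSL : alternatingGroup ι →* Matrix.SpecialLinearGroup ι F) (rho p) i j t =
      Matrix.SpecialLinearGroup.transvection hij t := by
  unfold xr
  rw [if_neg hij, phiR_M p i j hij]
  apply Subtype.ext
  rw [rhoF_xM i j hij t]
  rfl

/-- spare of M9 (`hr_M`). -/
theorem slnm13_hr_M (p : Pts ι) (i j : ι) (hij : i ≠ j) (s : Fˣ) :
    ((hr p (permSL : alternatingGroup ι →* Matrix.SpecialLinearGroup ι F) (rho p) i j s :
      Matrix.SpecialLinearGroup ι F) : Matrix ι ι F) =
      Matrix.diagonal (fun k => if k = i then (s : F) else if k = j then ((s⁻¹ : Fˣ) : F) else 1) := by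
  unfold hr
  rw [phiR_M p i j hij, rhoF_hM i j hij s]

/-- spare of M10 (`tor_M`). -/
theorem slnm13_tor_M (p : Pts ι) (i j k : ι) (hij : i ≠ j) (hik : i ≠ k) (hjk : j ≠ k) (s s' : Fˣ) (t : F) :
    Commute (hr p (permSL : alternatingGroup ι →* Matrix.SpecialLinearGroup ι F) (rho p) i j s)
        (hr p permSL (rho p) i k s') ∧
      Commute (hr p (permSL : alternatingGroup ι →* Matrix.SpecialLinearGroup ι F) (rho p) i j s)
        (hr p permSL (rho p) j k s') ∧
      hr p (permSL : alternatingGroup ι →* Matrix.SpecialLinearGroup ι F) (rho p) i k s * xr p permSL (rho p) i j t *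
        (hr p permSL (rho p) i k s)⁻¹ = xr p permSL (rho p) i j ((s : F) * t) ∧
      hr p (permSL : alternatingGroup ι →* Matrix.SpecialLinearGroup ι F) (rho p) j k s * xr p permSL (rho p) i j t *
        (hr p permSL (rho p) j k s)⁻¹ = xr p permSL (rho p) i j (((s⁻¹ : Fˣ) : F) * t) := by
  have hcomm : ∀ (a b c d : ι) (hab : a ≠ b) (hcd : c ≠ d) (r r' : Fˣ),
      Commute (hr p (permSL : alternatingGroup ι →* Matrix.SpecialLinearGroup ι F) (rho p) a b r)
        (hr p permSL (rho p) c d r') := by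
    intro a b c d hab hcd r r'
    apply Subtype.ext
    rw [Matrix.SpecialLinearGroup.coe_mul, Matrix.SpecialLinearGroup.coe_mul, slnm13_hr_M p a b hab,
      slnm13_hr_M p c d hcd, Matrix.diagonal_mul_diagonal, Matrix.diagonal_mul_diagonal]
    congr 1
    funext x
    exact mul_comm _ _
  refine ⟨hcomm i j i k hij hik s s', hcomm i j j k hij hjk s s', ?_, ?_⟩
  · rw [slnm13_xr_M p i j hij, slnm13_xr_M p i j hij]
    have h := diag_transvection (hr p (permSL : alternatingGroup ι →* Matrix.SpecialLinearGroup ι F) (rho p) i k s)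
      _ (slnm13_hr_M p i k hik s) hij t ((s : F) * t) (by
        simp [hij.symm, hjk])
    rw [h]
    group
  · rw [slnm13_xr_M p i j hij, slnm13_xr_M p i j hij]
    have h := diag_transvection (hr p (permSL : alternatingGroup ι →* Matrix.SpecialLinearGroup ι F) (rho p) j k s)
      _ (slnm13_hr_M p j k hjk s) hij t (((s⁻¹ : Fˣ) : F) * t) (by
        simp only [if_pos, if_neg hij, if_neg hik, one_mul]
        rw [mul_assoc, mul_comm t, ← mul_assoc, ← Units.val_mul, inv_mul_cancel, Units.val_one, one_mul])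
    rw [h]
    group

/-- spare of M11 (`com_M`). -/
theorem slnm13_com_M (p : Pts ι) (i j l : ι) (hij : i ≠ j) (hil : i ≠ l) (hjl : j ≠ l) (s t : F) :
    cm (xr p (permSL : alternatingGroup ι →* Matrix.SpecialLinearGroup ι F) (rho p) i j s)
        (xr p permSL (rho p) j l t) = xr p permSL (rho p) i l (s * t) ∧
      Commute (xr p (permSL : alternatingGroup ι →* Matrix.SpecialLinearGroup ι F) (rho p) i j s)
        (xr p permSL (rho p) i l t) ∧
      Commute (xr p (permSL : alternatingGroup ι →* Matrix.SpecialLinearGroup ι F) (rho p) i j s)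
        (xr p permSL (rho p) l j t) := by
  rw [slnm13_xr_M p i j hij s, slnm13_xr_M p j l hjl t, slnm13_xr_M p i l hil (s * t),
    slnm13_xr_M p i l hil t, slnm13_xr_M p l j hjl.symm t]
  refine ⟨?_, ?_, ?_⟩
  · rw [Cfsg.Agent.Lib.Lead.transvection_eq_commutator hil hij hjl s t, commutatorElement_def]
    rfl
  · apply Subtype.ext
    show (1 + Matrix.single i j s) * (1 + Matrix.single i l t) = (1 + Matrix.single i l t) * (1 + Matrix.single i j s)
    simp only [mul_add, add_mul, mul_one, one_mul, Matrix.single_mul_single_of_ne _ _ _ _ hij.symm,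
      Matrix.single_mul_single_of_ne _ _ _ _ hil.symm]
    abel
  · apply Subtype.ext
    show (1 + Matrix.single i j s) * (1 + Matrix.single l j t) = (1 + Matrix.single l j t) * (1 + Matrix.single i j s)
    simp only [mul_add, add_mul, mul_one, one_mul, Matrix.single_mul_single_of_ne _ _ _ _ hjl,
      Matrix.single_mul_single_of_ne _ _ _ _ hij.symm]
    abel

theorem glue_M (p : Pts ι) (ζ : Fˣ) :
    Glue p ζ (permSL : alternatingGroup ι →* Matrix.SpecialLinearGroup ι F) (rho p) := by
  have hT := fun (s : Fˣ) (t : F) => slnm13_tor_M (F := F) p p.o0 p.o1 p.o2 p.h01 p.h02 p.h12 s s t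
  have hTm := fun (s : Fˣ) (t : F) => slnm13_tor_M (F := F) p p.o1 p.o0 p.o2 p.h01.symm p.h12 p.h02 s s t
  have hC := slnm13_com_M (F := F) p p.o0 p.o1 p.o2 p.h01 p.h02 p.h12 1 1
  have hCm := slnm13_com_M (F := F) p p.o1 p.o0 p.o2 p.h01.symm p.h12 p.h02 1 1
  rw [mul_one] at hC hCm
  refine
    { stab1 := ?_, stab2 := ?_, disj := ?_, T1 := (hT ζ 1).1, T1' := (hT ζ 1).2.1, T2 := ?_, T3 := ?_,
      T2m := ?_, T3m := ?_,
      C1 := hC.1, C2 := hC.2.1, C3 := hC.2.2, C1m := hCm.1, C2m := hCm.2.1, C3m := hCm.2.2,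
      gen := fun c hc => gen_M p c hc }
  · intro σ h0 h1 m
    have h := permSL_rhoF (F := F) σ p.o p.o_injective m
    have hf : (σ : Equiv.Perm ι) ∘ p.o = p.o := by
      funext a
      fin_cases a
      · exact h0
      · exact h1
    show permSL σ * rhoF p.o p.o_injective m * (permSL σ)⁻¹ = rhoF p.o p.o_injective m
    rw [h]
    exact slnm13_rhoF_congr _ _ _ _ hf m
  · intro σ h0 h1 m
    have h := permSL_rhoF (F := F) σ p.o p.o_injective m
    have hf : (σ : Equiv.Perm ι) ∘ p.o = pr p.o1 p.o0 := by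
      funext a
      fin_cases a
      · exact h0
      · exact h1
    show permSL σ * rhoF p.o p.o_injective m * (permSL σ)⁻¹ = rhoF p.o p.o_injective (swM m)
    rw [h, slnm13_rhoF_congr _ _ _ (pr_injective p.h01.symm) hf m, slnm13_rhoF_swap p.o0 p.o1 p.h01 m]
    rfl
  · intro m m'
    rw [phiR_M p p.o0 p.o1 p.h01, phiR_M p p.o2 p.o3 p.h23]
    apply rhoF_disj
    intro a b
    fin_cases a <;> fin_cases b
    · exact p.h02
    · exact p.h03
    · exact p.h12
    · exact p.h13
  · have := (hT ζ 1).2.2.1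
    rwa [mul_one] at this
  · have := (hT ζ 1).2.2.2
    rwa [mul_one] at this
  · have := (hTm ζ 1).2.2.1
    rwa [mul_one] at this
  · have := (hTm ζ 1).2.2.2
    rwa [mul_one] at this

end M

end Cfsg.Agent.Lib.helper17.SLN
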