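import Mathlib
import Cfsg.Agent.Lib.Helper21.PresQuot
import Cfsg.Agent.Lib.helper17.SLN.Defs

/-!
# SLN rows P9 (`pres_quot`) and P10 (`center_cyclic`)
-/

set_option autoImplicit false

namespace Cfsg.Agent.Lib.helper17.SLN

open Cfsg.Agent.Lib.helper17.SLP

universe u v w v'

section P

variable {F : Type u} [Field F] {ι : Type w} [Fintype ι] [DecidableEq ι]

theorem pres_quot {m : ℕ} (R : Finset (FreeGroup (Fin m))) {G : Type v} [Group G]
    (e : PresentedGroup (↑R : Set (FreeGroup (Fin m))) ≃* G) (N : Subgroup G) [N.Normal] (z : G)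
    (hz : Subgroup.normalClosure {z} = N) :
    ∃ rels : Finset (FreeGroup (Fin m)), rels.card ≤ R.card + 1 ∧
      Nonempty (PresentedGroup (↑rels : Set (FreeGroup (Fin m))) ≃* G ⧸ N) := by
  obtain ⟨rels, hc, e', _⟩ := Cfsg.Agent.Lib.Helper21.PresQuot.quot_one_relator R e N z hz.symm
  exact ⟨rels, hc, ⟨e'⟩⟩

theorem center_cyclic :
    ∃ z : Matrix.SpecialLinearGroup ι F,
      Subgroup.normalClosure {z} = Subgroup.center (Matrix.SpecialLinearGroup ι F) := by
  have hne : NeZero (max (Fintype.card ι) 1) := ⟨by omega⟩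
  have hcyc : IsCyclic (Subgroup.center (Matrix.SpecialLinearGroup ι F)) := by
    have h1 : IsCyclic (rootsOfUnity (max (Fintype.card ι) 1) F) := rootsOfUnity.isCyclic F _
    exact isCyclic_of_surjective
      (Matrix.SpecialLinearGroup.center_equiv_rootsOfUnity (n := ι) (R := F)).symm
      (Matrix.SpecialLinearGroup.center_equiv_rootsOfUnity (n := ι) (R := F)).symm.surjective
  obtain ⟨g, hg⟩ := hcyc.exists_generator
  refine ⟨(g : Matrix.SpecialLinearGroup ι F), ?_⟩
  have hzp : Subgroup.zpowers (g : Matrix.SpecialLinearGroup ι F) =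
      Subgroup.center (Matrix.SpecialLinearGroup ι F) := by
    ext x
    constructor
    · intro hx
      obtain ⟨k, rfl⟩ := Subgroup.mem_zpowers_iff.mp hx
      exact Subgroup.zpow_mem _ g.2 k
    · intro hx
      obtain ⟨k, hk⟩ := Subgroup.mem_zpowers_iff.mp (hg ⟨x, hx⟩)
      refine Subgroup.mem_zpowers_iff.mpr ⟨k, ?_⟩
      have := congrArg Subtype.val hk
      simpa using this
  apply le_antisymm
  · apply Subgroup.normalClosure_le_normal
    intro x hx
    rw [Set.mem_singleton_iff] at hx
    rw [hx]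
    exact g.2
  · have h2 : Subgroup.zpowers (g : Matrix.SpecialLinearGroup ι F) ≤
        Subgroup.normalClosure {(g : Matrix.SpecialLinearGroup ι F)} := by
      rw [Subgroup.zpowers_eq_closure]
      exact Subgroup.closure_le_normalClosure
    exact hzp.symm.le.trans h2

end P

end Cfsg.Agent.Lib.helper17.SLN
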