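import Mathlib
import Cfsg.Agent.Lib.Helper21.SAPTietze
import Cfsg.Agent.Lib.helper4.SLNP12
import Cfsg.Agent.Lib.helper17.SLN.P9

/-!
# SLN row P13 (`psl_pres2`): from a presentation of `SL_n(F)` to a 2-generator presentation of `PSL_n(F)`, `+3` relators
-/

set_option autoImplicit false

namespace Cfsg.Agent.Lib.helper17.SLN

open Cfsg.Agent.Lib.helper17.SLP

universe u v w v'

section P

variable {F : Type u} [Field F] {ι : Type w} [Fintype ι] [DecidableEq ι]

theorem psl_pres2 [Fintype F] (n : ℕ) (hn : 1 ≤ n) {m : ℕ} (R : Finset (FreeGroup (Fin m))) (k : ℕ) (hR : R.card ≤ k)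
    (e : PresentedGroup (↑R : Set (FreeGroup (Fin m))) ≃* Matrix.SpecialLinearGroup (Fin (n + 1)) F) :
    ∃ rels : Finset (FreeGroup (Fin 2)), rels.card ≤ k + 3 ∧
      Nonempty (PresentedGroup (↑rels : Set (FreeGroup (Fin 2))) ≃*
        Matrix.ProjectiveSpecialLinearGroup (Fin (n + 1)) F) := by
  obtain ⟨z, hz⟩ := center_cyclic (F := F) (ι := Fin (n + 1))
  obtain ⟨rels1, hc1, ⟨e1⟩⟩ := pres_quot R e (Subgroup.center _) z hz
  obtain ⟨a, b, hab⟩ := psl_two_gen (F := F) n hn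
  obtain ⟨rels2, hc2, e2, _⟩ := Cfsg.Agent.Lib.Helper21.SAPT.change_gens_pair rels1 e1 a b hab
  exact ⟨rels2, by omega, ⟨e2⟩⟩

end P

end Cfsg.Agent.Lib.helper17.SLN
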