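import Mathlib
import Cfsg.Agent.Lib.Helper25.SLNS1
import Cfsg.Agent.Lib.helper17.SLN.P1

/-!
# SLN row P3 (`glue_of_words`): the 28 gluing relators imply `Glue`
-/

set_option autoImplicit false

namespace Cfsg.Agent.Lib.helper17.SLN

open Cfsg.Agent.Lib.helper17.SLP

universe u v w v'

section P

variable {F : Type u} [Field F] {ι : Type w} [Fintype ι] [DecidableEq ι]

/-- the swap automorphism as a monoid hom. -/
def slnp3_swHom : Matrix.SpecialLinearGroup (Fin 2) F →* Matrix.SpecialLinearGroup (Fin 2) F :=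
  MonoidHom.mk' swM swM_mul

theorem slnp3_swHom_apply (m : Matrix.SpecialLinearGroup (Fin 2) F) : slnp3_swHom m = swM m := rfl

/-- two homs out of `SL₂(F)` agreeing on three generators are equal. -/
theorem slnp3_hom_ext {G : Type v} [Group G] (ζ : Fˣ)
    (hgenM : Subgroup.closure ({xM (1 : F), hM ζ, wM} : Set (Matrix.SpecialLinearGroup (Fin 2) F)) = ⊤)
    (f g : Matrix.SpecialLinearGroup (Fin 2) F →* G) (h1 : f (xM 1) = g (xM 1)) (h2 : f (hM ζ) = g (hM ζ))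
    (h3 : f wM = g wM) : ∀ m, f m = g m := by
  have h : f = g := by
    apply MonoidHom.eq_of_eqOn_dense hgenM
    intro x hx
    simp only [Set.mem_insert_iff, Set.mem_singleton_iff] at hx
    rcases hx with rfl | rfl | rfl
    · exact h1
    · exact h2
    · exact h3
  intro m
  rw [h]

/-- commuting on generators implies commuting everywhere. -/
theorem slnp3_commute_ext {G : Type v} [Group G] (ζ : Fˣ)
    (hgenM : Subgroup.closure ({xM (1 : F), hM ζ, wM} : Set (Matrix.SpecialLinearGroup (Fin 2) F)) = ⊤)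
    (f : Matrix.SpecialLinearGroup (Fin 2) F →* G) (y : G) (h1 : Commute (f (xM 1)) y)
    (h2 : Commute (f (hM ζ)) y) (h3 : Commute (f wM) y) : ∀ m, Commute (f m) y := by
  intro m
  have hm : m ∈ Subgroup.closure ({xM (1 : F), hM ζ, wM} : Set (Matrix.SpecialLinearGroup (Fin 2) F)) := by
    rw [hgenM]; exact Subgroup.mem_top m
  induction hm using Subgroup.closure_induction with
  | mem x hx =>
    simp only [Set.mem_insert_iff, Set.mem_singleton_iff] at hx
    rcases hx with rfl | rfl | rfl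
    · exact h1
    · exact h2
    · exact h3
  | one => rw [map_one]; exact Commute.one_left y
  | mul x z _ _ hx hz => rw [map_mul]; exact hx.mul_left hz
  | inv x _ hx => rw [map_inv]; exact hx.inv_left

theorem glue_of_words (p : Pts ι) (ζ : Fˣ) (wN : alternatingGroup ι → FreeGroup (Fin 2))
    (wL : Matrix.SpecialLinearGroup (Fin 2) F → FreeGroup (Fin 3)) (g₁ g₂ c : alternatingGroup ι)
    (hg : ∀ g ∈ ({g₁, g₂} : Set (alternatingGroup ι)),
      ((g : Equiv.Perm ι) p.o0 = p.o0 ∧ (g : Equiv.Perm ι) p.o1 = p.o1) ∨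
        ((g : Equiv.Perm ι) p.o0 = p.o1 ∧ (g : Equiv.Perm ι) p.o1 = p.o0))
    (hN0 : ∀ σ : alternatingGroup ι,
      (((σ : Equiv.Perm ι) p.o0 = p.o0 ∧ (σ : Equiv.Perm ι) p.o1 = p.o1) ∨
        ((σ : Equiv.Perm ι) p.o0 = p.o1 ∧ (σ : Equiv.Perm ι) p.o1 = p.o0)) →
      σ ∈ Subgroup.closure ({g₁, g₂} : Set (alternatingGroup ι)))
    (hc : (c : Equiv.Perm ι) = cyc3 p.o0 p.o2 p.o1)
    (hgenM : Subgroup.closure ({xM (1 : F), hM ζ, wM} : Set (Matrix.SpecialLinearGroup (Fin 2) F)) = ⊤)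
    {G : Type v} [Group G] (a b u h w : G) (ν : alternatingGroup ι →* G)
    (φ : Matrix.SpecialLinearGroup (Fin 2) F →* G)
    (hν : ∀ σ, ν σ = ev2 a b (wN σ)) (hφ : ∀ m, φ m = ev u h w (wL m))
    (hrel : ∀ r ∈ wordsGlue p ζ wN wL g₁ g₂ c, ev5 a b u h w r = 1) : Glue p ζ ν φ := by
  have hWc : ∀ σ m, ev5 a b u h w (Wc wN wL σ m) = phiC ν φ σ m :=
    fun σ m => ev5_Wc wN wL a b u h w ν φ hν hφ σ m
  have hWr : ∀ i j m, ev5 a b u h w (Wr p wN wL i j m) = phiR p ν φ i j m :=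
    fun i j m => ev5_Wr p wN wL a b u h w ν φ hν hφ i j m
  have hinL : ∀ m, ev5 a b u h w (inL (wL m)) = φ m := fun m => by rw [ev5_inL, ← hφ]
  have hinN : ∀ σ, ev5 a b u h w (inN (wN σ)) = ν σ := fun σ => by rw [ev5_inN, ← hν]
  have hphiC : ∀ σ m, phiC ν φ σ m = ν σ * φ m * (ν σ)⁻¹ := fun σ m => rfl
  -- split the relators
  have hrS1 : ∀ r ∈ wordsStab p ζ wN wL g₁, ev5 a b u h w r = 1 := fun r hr =>
    hrel r (by unfold wordsGlue; simp only [List.mem_append]; tauto)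
  have hrS2 : ∀ r ∈ wordsStab p ζ wN wL g₂, ev5 a b u h w r = 1 := fun r hr =>
    hrel r (by unfold wordsGlue; simp only [List.mem_append]; tauto)
  have hrD : ∀ r ∈ wordsDisj p ζ wN wL, ev5 a b u h w r = 1 := fun r hr =>
    hrel r (by unfold wordsGlue; simp only [List.mem_append]; tauto)
  have hrT : ∀ r ∈ wordsTor p ζ wN wL, ev5 a b u h w r = 1 := fun r hr =>
    hrel r (by unfold wordsGlue; simp only [List.mem_append]; tauto)
  have hrC : ∀ r ∈ wordsCom p wN wL, ev5 a b u h w r = 1 := fun r hr =>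
    hrel r (by unfold wordsGlue; simp only [List.mem_append]; tauto)
  have hrG : ev5 a b u h w (wordGen p wN wL c) = 1 :=
    hrel _ (by unfold wordsGlue; simp only [List.mem_append, List.mem_singleton]; tauto)
  -- the stabiliser generators
  have hstabgen : ∀ g : alternatingGroup ι, (∀ r ∈ wordsStab p ζ wN wL g, ev5 a b u h w r = 1) →
      ∀ m, phiC ν φ g m = φ (swIf p g m) := by
    intro g hr
    have e1 := hr (Wc wN wL g (xM 1) * (inL (wL (swIf p g (xM 1))))⁻¹) (by unfold wordsStab; simp)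
    have e2 := hr (Wc wN wL g (hM ζ) * (inL (wL (swIf p g (hM ζ))))⁻¹) (by unfold wordsStab; simp)
    have e3 := hr (Wc wN wL g wM * (inL (wL (swIf p g wM)))⁻¹) (by unfold wordsStab; simp)
    rw [map_mul, map_inv, hWc, hinL, mul_inv_eq_one] at e1 e2 e3
    by_cases hsw : (g : Equiv.Perm ι) p.o0 = p.o1
    · have hsI : ∀ m : Matrix.SpecialLinearGroup (Fin 2) F, swIf p g m = swM m := fun m => by unfold swIf; rw [if_pos hsw]
      rw [hsI] at e1 e2 e3
      intro m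
      rw [hsI]
      exact slnp3_hom_ext ζ hgenM (phiC ν φ g) (φ.comp slnp3_swHom) e1 e2 e3 m
    · have hsI : ∀ m : Matrix.SpecialLinearGroup (Fin 2) F, swIf p g m = m := fun m => by unfold swIf; rw [if_neg hsw]
      rw [hsI] at e1 e2 e3
      intro m
      rw [hsI]
      exact slnp3_hom_ext ζ hgenM (phiC ν φ g) φ e1 e2 e3 m
  -- the property propagated over the closure
  have hQ : ∀ σ ∈ Subgroup.closure ({g₁, g₂} : Set (alternatingGroup ι)),
      (((σ : Equiv.Perm ι) p.o0 = p.o0 ∧ (σ : Equiv.Perm ι) p.o1 = p.o1) ∧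
          ∀ m, ν σ * φ m * (ν σ)⁻¹ = φ m) ∨
        (((σ : Equiv.Perm ι) p.o0 = p.o1 ∧ (σ : Equiv.Perm ι) p.o1 = p.o0) ∧
          ∀ m, ν σ * φ m * (ν σ)⁻¹ = φ (swM m)) := by
    intro σ hσ
    induction hσ using Subgroup.closure_induction with
    | mem x hx =>
      have hx' := hx
      simp only [Set.mem_insert_iff, Set.mem_singleton_iff] at hx'
      have hst : ∀ m, phiC ν φ x m = φ (swIf p x m) := by
        rcases hx' with rfl | rfl
        · exact hstabgen _ hrS1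
        · exact hstabgen _ hrS2
      rcases hg x hx with hfix | hswap
      · left
        refine ⟨hfix, fun m => ?_⟩
        have := hst m
        unfold swIf at this
        rw [if_neg (by rw [hfix.1]; exact p.h01)] at this
        exact this
      · right
        refine ⟨hswap, fun m => ?_⟩
        have := hst m
        unfold swIf at this
        rw [if_pos hswap.1] at this
        exact this
    | one =>
      left
      refine ⟨⟨rfl, rfl⟩, fun m => ?_⟩
      rw [map_one]; group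
    | mul x y _ _ hx hy =>
      have hmul : ∀ m, ν (x * y) * φ m * (ν (x * y))⁻¹ = ν x * (ν y * φ m * (ν y)⁻¹) * (ν x)⁻¹ := by
        intro m; rw [map_mul]; group
      have hco : ∀ k, ((x * y : alternatingGroup ι) : Equiv.Perm ι) k =
          (x : Equiv.Perm ι) ((y : Equiv.Perm ι) k) := fun k => rfl
      rcases hx with ⟨⟨hx0, hx1⟩, hxm⟩ | ⟨⟨hx0, hx1⟩, hxm⟩ <;>
        rcases hy with ⟨⟨hy0, hy1⟩, hym⟩ | ⟨⟨hy0, hy1⟩, hym⟩
      · left
        refine ⟨⟨by rw [hco, hy0, hx0], by rw [hco, hy1, hx1]⟩, fun m => ?_⟩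
        rw [hmul, hym, hxm]
      · right
        refine ⟨⟨by rw [hco, hy0, hx1], by rw [hco, hy1, hx0]⟩, fun m => ?_⟩
        rw [hmul, hym, hxm]
      · right
        refine ⟨⟨by rw [hco, hy0, hx0], by rw [hco, hy1, hx1]⟩, fun m => ?_⟩
        rw [hmul, hym, hxm]
      · left
        refine ⟨⟨by rw [hco, hy0, hx1], by rw [hco, hy1, hx0]⟩, fun m => ?_⟩
        rw [hmul, hym, hxm, swM_swM]
    | inv x _ hx =>
      have hinv : ∀ k l, (x : Equiv.Perm ι) k = l →
          ((x⁻¹ : alternatingGroup ι) : Equiv.Perm ι) l = k := by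
        intro k l hkl
        show (x : Equiv.Perm ι)⁻¹ l = k
        rw [← hkl]
        exact (x : Equiv.Perm ι).symm_apply_apply k
      rcases hx with ⟨⟨hx0, hx1⟩, hxm⟩ | ⟨⟨hx0, hx1⟩, hxm⟩
      · left
        refine ⟨⟨hinv _ _ hx0, hinv _ _ hx1⟩, fun m => ?_⟩
        have := hxm m
        rw [map_inv, inv_inv]
        calc (ν x)⁻¹ * φ m * ν x = (ν x)⁻¹ * (ν x * φ m * (ν x)⁻¹) * ν x := by rw [this]
          _ = φ m := by group
      · right
        refine ⟨⟨hinv _ _ hx1, hinv _ _ hx0⟩, fun m => ?_⟩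
        have := hxm (swM m)
        rw [swM_swM] at this
        rw [map_inv, inv_inv, ← this]
        group
  -- the relators, evaluated
  have hxr : ∀ i j, i ≠ j → ∀ t, xr p ν φ i j t = phiR p ν φ i j (xM t) := by
    intro i j hij t
    unfold xr
    rw [if_neg hij]
  have hcm : ∀ x y : FreeGroup (Fin 5), ev5 a b u h w (cm x y) = cm (ev5 a b u h w x) (ev5 a b u h w y) :=
    fun x y => map_cm _ x y
  refine
    { stab1 := ?_, stab2 := ?_, disj := ?_, T1 := ?_, T1' := ?_, T2 := ?_, T3 := ?_, T2m := ?_, T3m := ?_,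
      C1 := ?_, C2 := ?_, C3 := ?_, C1m := ?_, C2m := ?_, C3m := ?_, gen := ?_ }
  · intro σ h0 h1 m
    rcases hQ σ (hN0 σ (Or.inl ⟨h0, h1⟩)) with ⟨_, hm⟩ | ⟨⟨h0', _⟩, _⟩
    · exact hm m
    · exact absurd (h0.symm.trans h0') p.h01
  · intro σ h0 h1 m
    rcases hQ σ (hN0 σ (Or.inr ⟨h0, h1⟩)) with ⟨⟨h0', _⟩, _⟩ | ⟨_, hm⟩
    · exact absurd (h0'.symm.trans h0) p.h01
    · exact hm m
  · -- disj
    have hD : ∀ m m', (m = xM 1 ∨ m = hM ζ ∨ m = wM) → (m' = xM 1 ∨ m' = hM ζ ∨ m' = wM) →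
        Commute (phiR p ν φ p.o0 p.o1 m) (phiR p ν φ p.o2 p.o3 m') := by
      intro m m' hm hm'
      have := hrD (cm (Wr p wN wL p.o0 p.o1 m) (Wr p wN wL p.o2 p.o3 m')) (by
        unfold wordsDisj
        rcases hm with rfl | rfl | rfl <;> rcases hm' with rfl | rfl | rfl <;> simp)
      rw [hcm, hWr, hWr, cm_eq_one_iff] at this
      exact this
    intro m m'
    have step1 : ∀ m', (m' = xM 1 ∨ m' = hM ζ ∨ m' = wM) →
        ∀ m, Commute (phiR p ν φ p.o0 p.o1 m) (phiR p ν φ p.o2 p.o3 m') := by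
      intro m' hm'
      exact slnp3_commute_ext ζ hgenM (phiR p ν φ p.o0 p.o1) _ (hD _ _ (Or.inl rfl) hm')
        (hD _ _ (Or.inr (Or.inl rfl)) hm') (hD _ _ (Or.inr (Or.inr rfl)) hm')
    exact (slnp3_commute_ext ζ hgenM (phiR p ν φ p.o2 p.o3) _ (step1 _ (Or.inl rfl) m).symm
      (step1 _ (Or.inr (Or.inl rfl)) m).symm (step1 _ (Or.inr (Or.inr rfl)) m).symm m').symm
  · have := hrT (cm (Wr p wN wL p.o0 p.o1 (hM ζ)) (Wr p wN wL p.o0 p.o2 (hM ζ)))
      (by unfold wordsTor; simp)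
    rw [hcm, hWr, hWr, cm_eq_one_iff] at this
    exact this
  · have := hrT (cm (Wr p wN wL p.o0 p.o1 (hM ζ)) (Wr p wN wL p.o1 p.o2 (hM ζ)))
      (by unfold wordsTor; simp)
    rw [hcm, hWr, hWr, cm_eq_one_iff] at this
    exact this
  · have := hrT (Wr p wN wL p.o0 p.o2 (hM ζ) * Wr p wN wL p.o0 p.o1 (xM 1) * (Wr p wN wL p.o0 p.o2 (hM ζ))⁻¹ *
      (Wr p wN wL p.o0 p.o1 (xM (ζ : F)))⁻¹) (by unfold wordsTor; simp)
    rw [map_mul, map_mul, map_mul, map_inv, map_inv, hWr, hWr, hWr, mul_inv_eq_one] at this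
    rw [hxr _ _ p.h01, hxr _ _ p.h01]
    exact this
  · have := hrT (Wr p wN wL p.o1 p.o2 (hM ζ) * Wr p wN wL p.o0 p.o1 (xM 1) * (Wr p wN wL p.o1 p.o2 (hM ζ))⁻¹ *
      (Wr p wN wL p.o0 p.o1 (xM ((ζ⁻¹ : Fˣ) : F)))⁻¹) (by unfold wordsTor; simp)
    rw [map_mul, map_mul, map_mul, map_inv, map_inv, hWr, hWr, hWr, mul_inv_eq_one] at this
    rw [hxr _ _ p.h01, hxr _ _ p.h01]
    exact this
  · have := hrT (Wr p wN wL p.o1 p.o2 (hM ζ) * Wr p wN wL p.o1 p.o0 (xM 1) * (Wr p wN wL p.o1 p.o2 (hM ζ))⁻¹ *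
      (Wr p wN wL p.o1 p.o0 (xM (ζ : F)))⁻¹) (by unfold wordsTor; simp)
    rw [map_mul, map_mul, map_mul, map_inv, map_inv, hWr, hWr, hWr, mul_inv_eq_one] at this
    rw [hxr _ _ p.h01.symm, hxr _ _ p.h01.symm]
    exact this
  · have := hrT (Wr p wN wL p.o0 p.o2 (hM ζ) * Wr p wN wL p.o1 p.o0 (xM 1) * (Wr p wN wL p.o0 p.o2 (hM ζ))⁻¹ *
      (Wr p wN wL p.o1 p.o0 (xM ((ζ⁻¹ : Fˣ) : F)))⁻¹) (by unfold wordsTor; simp)
    rw [map_mul, map_mul, map_mul, map_inv, map_inv, hWr, hWr, hWr, mul_inv_eq_one] at this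
    rw [hxr _ _ p.h01.symm, hxr _ _ p.h01.symm]
    exact this
  · have := hrC (cm (Wr p wN wL p.o0 p.o1 (xM 1)) (Wr p wN wL p.o1 p.o2 (xM 1)) *
      (Wr p wN wL p.o0 p.o2 (xM 1))⁻¹) (by unfold wordsCom; simp)
    rw [map_mul, map_inv, hcm, hWr, hWr, hWr, mul_inv_eq_one] at this
    rw [hxr _ _ p.h01, hxr _ _ p.h12, hxr _ _ p.h02]
    exact this
  · have := hrC (cm (Wr p wN wL p.o0 p.o1 (xM 1)) (Wr p wN wL p.o0 p.o2 (xM 1))) (by unfold wordsCom; simp)
    rw [hcm, hWr, hWr, cm_eq_one_iff] at this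
    rw [hxr _ _ p.h01, hxr _ _ p.h02]
    exact this
  · have := hrC (cm (Wr p wN wL p.o0 p.o1 (xM 1)) (Wr p wN wL p.o2 p.o1 (xM 1))) (by unfold wordsCom; simp)
    rw [hcm, hWr, hWr, cm_eq_one_iff] at this
    rw [hxr _ _ p.h01, hxr _ _ p.h12.symm]
    exact this
  · have := hrC (cm (Wr p wN wL p.o1 p.o0 (xM 1)) (Wr p wN wL p.o0 p.o2 (xM 1)) *
      (Wr p wN wL p.o1 p.o2 (xM 1))⁻¹) (by unfold wordsCom; simp)
    rw [map_mul, map_inv, hcm, hWr, hWr, hWr, mul_inv_eq_one] at this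
    rw [hxr _ _ p.h01.symm, hxr _ _ p.h02, hxr _ _ p.h12]
    exact this
  · have := hrC (cm (Wr p wN wL p.o1 p.o0 (xM 1)) (Wr p wN wL p.o1 p.o2 (xM 1))) (by unfold wordsCom; simp)
    rw [hcm, hWr, hWr, cm_eq_one_iff] at this
    rw [hxr _ _ p.h01.symm, hxr _ _ p.h12]
    exact this
  · have := hrC (cm (Wr p wN wL p.o1 p.o0 (xM 1)) (Wr p wN wL p.o2 p.o0 (xM 1))) (by unfold wordsCom; simp)
    rw [hcm, hWr, hWr, cm_eq_one_iff] at this
    rw [hxr _ _ p.h01.symm, hxr _ _ p.h02.symm]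
    exact this
  · intro c' hc'
    have hcc : c' = c := Subtype.ext (hc'.trans hc.symm)
    have := hrG
    unfold wordGen at this
    rw [map_mul, map_inv, map_mul, hinN, hWr, hWr, mul_inv_eq_one] at this
    rw [hcc]
    exact this

end P

end Cfsg.Agent.Lib.helper17.SLN
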