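import Mathlib
import Cfsg.Agent.Lib.helper7.StK
import Cfsg.Agent.Lib.Helper12.SLND1
import Cfsg.Agent.Lib.Helper25.SLNS4
import Cfsg.Agent.Lib.helper6.SLNE6
import Cfsg.Agent.Lib.helper6.SLNE7
import Cfsg.Agent.Lib.helper6.SLNC14

set_option autoImplicit false

namespace Cfsg.Agent.Lib.helper17.SLN

open Cfsg.Agent.Lib.helper17.SLP
open Cfsg.Agent.Lib.helper7.St

universe u v w v'

section Y

variable {F : Type u} [Field F] [Fintype F] {ι : Type w} [Fintype ι] [DecidableEq ι] {G : Type v} [Group G]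

theorem sys_of_glue (p : Pts ι) (ζ : Fˣ) (hζ : ∀ y : Fˣ, y ∈ Subgroup.zpowers ζ) (ν : alternatingGroup ι →* G)
    (φ : Matrix.SpecialLinearGroup (Fin 2) F →* G) (H : Glue p ζ ν φ) :
    ∃ S : Sys F ι G, S.x = xr p ν φ := by
  have hb := fun i j => xr_basic p ν φ i j
  have hxr : ∀ i j, i ≠ j → ∀ t, xr p ν φ i j t = phiR p ν φ i j (xM t) := by
    intro i j hij t
    unfold xr
    rw [if_neg hij]
  refine ⟨{ x := xr p ν φ, diag := ?_, add := ?_, comm := ?_, comm3 := ?_, rel := ?_ }, rfl⟩
  · intro i t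
    unfold xr
    rw [if_pos rfl]
  · intro i j _ t u
    exact ((hb i j).1 t u).symm
  · intro i j k l hij hkl hil hjk t u
    by_cases hik : i = k
    · subst hik
      by_cases hjl : j = l
      · subst hjl
        rw [← (hb i j).1, ← (hb i j).1, add_comm]
      · exact ((fam_all p ζ hζ ν φ H i j l hij hil hjl t u).2.1).eq
    · by_cases hjl : j = l
      · subst hjl
        exact ((fam_all p ζ hζ ν φ H i j k hij hik hjk t u).2.2).eq
      · have h := comm_disj p ζ ν φ H i j k l hij hik hil hjk hjl hkl (xM t) (xM u)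
        rw [hxr i j hij, hxr k l hkl]
        exact h.eq
  · intro i j l hij hjl hil t u
    have h := (fam_all p ζ hζ ν φ H i j l hij hil hjl t u).1
    unfold cm at h
    exact h
  · intro i j hij t u ht
    unfold Cfsg.Agent.Lib.helper15.St2.cj
    rw [hxr i j hij, hxr i j hij, xr_swap p ζ ν φ H i j hij, xr_swap p ζ ν φ H i j hij,
      ← map_mul, ← map_mul, ← map_mul, ← map_inv, ← map_mul, rel_M t u ht]

end Y


end Cfsg.Agent.Lib.helper17.SLN
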