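import Mathlib
import Cfsg.Agent.Lib.helper7.StK
import Cfsg.Agent.Lib.Lead.SLn
import Cfsg.Agent.Lib.helper15.SLNY2
import Cfsg.Agent.Lib.Helper24.SLNY3
import Cfsg.Agent.Lib.Helper28.SLNM9
import Cfsg.Agent.Lib.helper17.SLN.Y1

set_option autoImplicit false

namespace Cfsg.Agent.Lib.helper17.SLN

open Cfsg.Agent.Lib.helper17.SLP
open Cfsg.Agent.Lib.helper7.St

universe u v w v'

section P

variable {F : Type u} [Field F] {ι : Type w} [Fintype ι] [DecidableEq ι]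

theorem iso_of_glue [Fintype F] (p : Pts ι) (ζ : Fˣ) (hζ : ∀ y : Fˣ, y ∈ Subgroup.zpowers ζ)
    {G : Type v} [Group G] (ν : alternatingGroup ι →* G) (φ : Matrix.SpecialLinearGroup (Fin 2) F →* G)
    (H : Glue p ζ ν φ) (hgen : Subgroup.closure (Set.range ν ∪ Set.range φ) = ⊤)
    (Φ : G →* Matrix.SpecialLinearGroup ι F) (hΦν : ∀ σ, Φ (ν σ) = permSL σ) (hΦφ : ∀ m, Φ (φ m) = rho p m) :
    Function.Bijective Φ := by
  obtain ⟨S, hS⟩ := sys_of_glue p ζ hζ ν φ H
  have hν' : Φ.comp ν = permSL := MonoidHom.ext hΦν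
  have hφ' : Φ.comp φ = rho p := MonoidHom.ext hΦφ
  have hx : ∀ i j (hij : i ≠ j) (t : F), Φ (S.x i j t) = Matrix.SpecialLinearGroup.transvection hij t := by
    intro i j hij t
    rw [hS, map_xr, hν', hφ', xr_M p i j hij t]
  let R : S.Rep ι :=
    { e := Function.Embedding.refl ι
      φ := Φ
      hφ := by
        intro i j hij t
        rw [hx i j hij t]
        rfl }
  have hnt : Nontrivial ι := ⟨⟨p.o0, p.o1, p.h01⟩⟩
  refine ⟨Sys.Rep.injective R (gen_top p ζ ν φ H S hS hgen), ?_⟩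
  rw [← MonoidHom.range_eq_top, eq_top_iff, ← Cfsg.Agent.Lib.Lead.SL_closure_transvections,
    Subgroup.closure_le]
  rintro A ⟨i, j, hij, t, rfl⟩
  exact ⟨S.x i j t, hx i j hij t⟩

end P


end Cfsg.Agent.Lib.helper17.SLN
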