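import Mathlib
import Cfsg.Agent.Lib.Helper9.SP4H1
import Cfsg.Agent.Lib.helper17.SLN.P1

/-!
# SLN row P6 (`pres5_abstract`): the abstract side of the amalgam presentation
-/

set_option autoImplicit false

namespace Cfsg.Agent.Lib.helper17.SLN

open Cfsg.Agent.Lib.helper17.SLP

universe u v w v'

section P

variable {F : Type u} [Field F] {ι : Type w} [Fintype ι] [DecidableEq ι]

theorem pres5_abstract (ζ : Fˣ) (relsN : Set (FreeGroup (Fin 2)))
    (eN : PresentedGroup relsN ≃* alternatingGroup ι)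
    (wN : alternatingGroup ι → FreeGroup (Fin 2)) (hwN : ∀ σ, eN (PresentedGroup.mk relsN (wN σ)) = σ)
    (L : List (FreeGroup (Fin 3)))
    (hL : ∀ (G : Type) [Group G] (u h w : G), (∀ r ∈ L, ev u h w r = 1) →
      ∃ φ : Matrix.SpecialLinearGroup (Fin 2) F →* G, φ (xM 1) = u ∧ φ (hM ζ) = h ∧ φ wM = w)
    (wL : Matrix.SpecialLinearGroup (Fin 2) F → FreeGroup (Fin 3))
    (hwL : ∀ m, ev (xM (1 : F)) (hM ζ) wM (wL m) = m)
    (rels : Set (FreeGroup (Fin 5))) (hN : ∀ r ∈ relsN, inN r ∈ rels) (hLr : ∀ r ∈ L, inL r ∈ rels) :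
    ∃ (ν : alternatingGroup ι →* PresentedGroup rels)
      (φ : Matrix.SpecialLinearGroup (Fin 2) F →* PresentedGroup rels),
      (∀ σ, ν σ = ev2 (PresentedGroup.of 0) (PresentedGroup.of 1) (wN σ)) ∧
      (∀ m, φ m = ev (PresentedGroup.of 2) (PresentedGroup.of 3) (PresentedGroup.of 4) (wL m)) ∧
      Subgroup.closure (Set.range ν ∪ Set.range φ) = ⊤ ∧
      ∀ x : FreeGroup (Fin 5), ev5 (PresentedGroup.of 0 : PresentedGroup rels) (PresentedGroup.of 1)
        (PresentedGroup.of 2) (PresentedGroup.of 3) (PresentedGroup.of 4) x = PresentedGroup.mk rels x := by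
  -- the evaluation at the generators is the quotient map
  have hev : ∀ x : FreeGroup (Fin 5), ev5 (PresentedGroup.of 0 : PresentedGroup rels) (PresentedGroup.of 1)
      (PresentedGroup.of 2) (PresentedGroup.of 3) (PresentedGroup.of 4) x = PresentedGroup.mk rels x := by
    have hh : ev5 (PresentedGroup.of 0 : PresentedGroup rels) (PresentedGroup.of 1)
        (PresentedGroup.of 2) (PresentedGroup.of 3) (PresentedGroup.of 4) = PresentedGroup.mk rels := by
      apply FreeGroup.ext_hom
      intro i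
      fin_cases i <;> simp [ev5] <;> rfl
    exact fun x => DFunLike.congr_fun hh x
  have hone : ∀ r ∈ rels, PresentedGroup.mk rels r = 1 := fun r hr => PresentedGroup.one_of_mem hr
  -- `ν`
  have hrelN : ∀ r ∈ relsN, FreeGroup.lift ![(PresentedGroup.of 0 : PresentedGroup rels), PresentedGroup.of 1] r = 1 := by
    intro r hr
    have h1 : FreeGroup.lift ![(PresentedGroup.of 0 : PresentedGroup rels), PresentedGroup.of 1] r
        = ev2 (PresentedGroup.of 0 : PresentedGroup rels) (PresentedGroup.of 1) r := rfl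
    rw [h1, ← ev5_inN _ _ (PresentedGroup.of 2) (PresentedGroup.of 3) (PresentedGroup.of 4), hev]
    exact hone _ (hN r hr)
  set ψ : PresentedGroup relsN →* PresentedGroup rels := PresentedGroup.toGroup hrelN with hψ
  have hψmk : ∀ x : FreeGroup (Fin 2), ψ (PresentedGroup.mk relsN x)
      = ev2 (PresentedGroup.of 0 : PresentedGroup rels) (PresentedGroup.of 1) x := fun x => rfl
  have hψof : ∀ i : Fin 2, ψ (PresentedGroup.of i)
      = ![(PresentedGroup.of 0 : PresentedGroup rels), PresentedGroup.of 1] i :=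
    fun i => PresentedGroup.toGroup.of hrelN
  set ν : alternatingGroup ι →* PresentedGroup rels := ψ.comp eN.symm.toMonoidHom with hνdef
  have hν : ∀ σ, ν σ = ev2 (PresentedGroup.of 0 : PresentedGroup rels) (PresentedGroup.of 1) (wN σ) := by
    intro σ
    have h1 : eN.symm σ = PresentedGroup.mk relsN (wN σ) := by
      rw [MulEquiv.symm_apply_eq, hwN]
    show ψ (eN.symm σ) = _
    rw [h1, hψmk]
  -- `φ`
  have hrelL : ∀ r ∈ L, ev (PresentedGroup.of 2 : PresentedGroup rels) (PresentedGroup.of 3)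
      (PresentedGroup.of 4) r = 1 := by
    intro r hr
    rw [← ev5_inL (PresentedGroup.of 0) (PresentedGroup.of 1), hev]
    exact hone _ (hLr r hr)
  obtain ⟨φ, hφ1, hφ2, hφ3⟩ := hL (PresentedGroup rels) (PresentedGroup.of 2) (PresentedGroup.of 3)
    (PresentedGroup.of 4) hrelL
  have hφ : ∀ m, φ m = ev (PresentedGroup.of 2 : PresentedGroup rels) (PresentedGroup.of 3)
      (PresentedGroup.of 4) (wL m) := by
    intro m
    conv_lhs => rw [← hwL m]
    rw [Cfsg.Agent.Lib.helper3.SP4.ev_map, hφ1, hφ2, hφ3]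
  refine ⟨ν, φ, hν, hφ, ?_, hev⟩
  -- generation
  rw [eq_top_iff, ← PresentedGroup.closure_range_of rels, Subgroup.closure_le]
  rintro _ ⟨i, rfl⟩
  apply Subgroup.subset_closure
  fin_cases i
  · left
    refine ⟨eN (PresentedGroup.of 0), ?_⟩
    show ψ (eN.symm (eN (PresentedGroup.of 0))) = _
    rw [eN.symm_apply_apply, hψof]
    rfl
  · left
    refine ⟨eN (PresentedGroup.of 1), ?_⟩
    show ψ (eN.symm (eN (PresentedGroup.of 1))) = _
    rw [eN.symm_apply_apply, hψof]
    rfl
  · right; exact ⟨xM 1, hφ1⟩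
  · right; exact ⟨hM ζ, hφ2⟩
  · right; exact ⟨wM, hφ3⟩

end P

end Cfsg.Agent.Lib.helper17.SLN
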