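import Mathlib
import Cfsg.Agent.Lib.Helper9.SP4H1
import Cfsg.Agent.Lib.helper17.SLN.P1

set_option autoImplicit false

namespace Cfsg.Agent.Lib.helper17.SLN

open Cfsg.Agent.Lib.helper17.SLP

universe u v w v'

section P

variable {F : Type u} [Field F] {ι : Type w} [Fintype ι] [DecidableEq ι]

/-- core of P7 on the statements of P4 (`words_of_glue`) and M13 (`glue_M`). -/
theorem slnp7_core (p : Pts ι) (ζ : Fˣ) (relsN : Set (FreeGroup (Fin 2)))
    (eN : PresentedGroup relsN ≃* alternatingGroup ι)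
    (wN : alternatingGroup ι → FreeGroup (Fin 2)) (hwN : ∀ σ, eN (PresentedGroup.mk relsN (wN σ)) = σ)
    (L : List (FreeGroup (Fin 3))) (hLM : ∀ r ∈ L, ev (xM (1 : F)) (hM ζ) wM r = 1)
    (wL : Matrix.SpecialLinearGroup (Fin 2) F → FreeGroup (Fin 3))
    (hwL : ∀ m, ev (xM (1 : F)) (hM ζ) wM (wL m) = m) (g₁ g₂ c : alternatingGroup ι)
    (hP4 : ∀ (a b u h w : Matrix.SpecialLinearGroup ι F),
      (∀ σ, (permSL σ : Matrix.SpecialLinearGroup ι F) = ev2 a b (wN σ)) →
      (∀ m, (rho p m : Matrix.SpecialLinearGroup ι F) = ev u h w (wL m)) →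
      ∀ r ∈ wordsGlue p ζ wN wL g₁ g₂ c, ev5 a b u h w r = 1) :
    (∀ r ∈ relsN, ev5 (permSL (eN (PresentedGroup.of 0)) : Matrix.SpecialLinearGroup ι F)
        (permSL (eN (PresentedGroup.of 1))) (rho p (xM 1)) (rho p (hM ζ)) (rho p wM) (inN r) = 1) ∧
      (∀ r ∈ L, ev5 (permSL (eN (PresentedGroup.of 0)) : Matrix.SpecialLinearGroup ι F)
        (permSL (eN (PresentedGroup.of 1))) (rho p (xM 1)) (rho p (hM ζ)) (rho p wM) (inL r) = 1) ∧
      (∀ r ∈ wordsGlue p ζ wN wL g₁ g₂ c, ev5 (permSL (eN (PresentedGroup.of 0)) : Matrix.SpecialLinearGroup ι F)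
        (permSL (eN (PresentedGroup.of 1))) (rho p (xM 1)) (rho p (hM ζ)) (rho p wM) r = 1) ∧
      (∀ σ, (permSL σ : Matrix.SpecialLinearGroup ι F) =
        ev2 (permSL (eN (PresentedGroup.of 0))) (permSL (eN (PresentedGroup.of 1))) (wN σ)) ∧
      ∀ m, (rho p m : Matrix.SpecialLinearGroup ι F) = ev (rho p (xM 1)) (rho p (hM ζ)) (rho p wM) (wL m) := by
  have hev2 : ∀ x : FreeGroup (Fin 2),
      ev2 (permSL (eN (PresentedGroup.of 0)) : Matrix.SpecialLinearGroup ι F)
        (permSL (eN (PresentedGroup.of 1))) x = permSL (eN (PresentedGroup.mk relsN x)) := by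
    have hh : ev2 (permSL (eN (PresentedGroup.of 0)) : Matrix.SpecialLinearGroup ι F)
        (permSL (eN (PresentedGroup.of 1)))
        = ((permSL : alternatingGroup ι →* Matrix.SpecialLinearGroup ι F).comp eN.toMonoidHom).comp
          (PresentedGroup.mk relsN) := by
      apply FreeGroup.ext_hom
      intro i
      fin_cases i <;> simp [ev2] <;> rfl
    exact fun x => DFunLike.congr_fun hh x
  have hev : ∀ x : FreeGroup (Fin 3),
      ev (rho p (xM 1) : Matrix.SpecialLinearGroup ι F) (rho p (hM ζ)) (rho p wM) x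
        = rho p (ev (xM (1 : F)) (hM ζ) wM x) :=
    fun x => (Cfsg.Agent.Lib.helper3.SP4.ev_map (rho p) _ _ _ x).symm
  have h4 : ∀ σ, (permSL σ : Matrix.SpecialLinearGroup ι F) =
      ev2 (permSL (eN (PresentedGroup.of 0))) (permSL (eN (PresentedGroup.of 1))) (wN σ) := by
    intro σ
    rw [hev2, hwN]
  have h5 : ∀ m, (rho p m : Matrix.SpecialLinearGroup ι F) =
      ev (rho p (xM 1)) (rho p (hM ζ)) (rho p wM) (wL m) := by
    intro m
    rw [hev, hwL]
  refine ⟨?_, ?_, ?_, h4, h5⟩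
  · intro r hr
    rw [ev5_inN, hev2, PresentedGroup.one_of_mem hr, map_one, map_one]
  · intro r hr
    rw [ev5_inL, hev, hLM r hr, map_one]
  · exact hP4 _ _ _ _ _ h4 h5

end P

end Cfsg.Agent.Lib.helper17.SLN
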