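import Mathlib
import Cfsg.Agent.Lib.Helper16.SLNP4
import Cfsg.Agent.Lib.helper17.SLN.M13
import Cfsg.Agent.Lib.helper17.SLN.P7core

/-!
# SLN row P7 (`pres5_matrix`): the relators hold in `SL(ι, F)`
-/

set_option autoImplicit false

namespace Cfsg.Agent.Lib.helper17.SLN

open Cfsg.Agent.Lib.helper17.SLP

universe u v w v'

section P

variable {F : Type u} [Field F] {ι : Type w} [Fintype ι] [DecidableEq ι]

theorem pres5_matrix (p : Pts ι) (ζ : Fˣ) (relsN : Set (FreeGroup (Fin 2)))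
    (eN : PresentedGroup relsN ≃* alternatingGroup ι)
    (wN : alternatingGroup ι → FreeGroup (Fin 2)) (hwN : ∀ σ, eN (PresentedGroup.mk relsN (wN σ)) = σ)
    (L : List (FreeGroup (Fin 3))) (hLM : ∀ r ∈ L, ev (xM (1 : F)) (hM ζ) wM r = 1)
    (wL : Matrix.SpecialLinearGroup (Fin 2) F → FreeGroup (Fin 3))
    (hwL : ∀ m, ev (xM (1 : F)) (hM ζ) wM (wL m) = m) (g₁ g₂ c : alternatingGroup ι)
    (hg : ∀ g ∈ ({g₁, g₂} : Set (alternatingGroup ι)),
      ((g : Equiv.Perm ι) p.o0 = p.o0 ∧ (g : Equiv.Perm ι) p.o1 = p.o1) ∨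
        ((g : Equiv.Perm ι) p.o0 = p.o1 ∧ (g : Equiv.Perm ι) p.o1 = p.o0))
    (hc : (c : Equiv.Perm ι) = cyc3 p.o0 p.o2 p.o1) :
    (∀ r ∈ relsN, ev5 (permSL (eN (PresentedGroup.of 0)) : Matrix.SpecialLinearGroup ι F)
        (permSL (eN (PresentedGroup.of 1))) (rho p (xM 1)) (rho p (hM ζ)) (rho p wM) (inN r) = 1) ∧
      (∀ r ∈ L, ev5 (permSL (eN (PresentedGroup.of 0)) : Matrix.SpecialLinearGroup ι F)
        (permSL (eN (PresentedGroup.of 1))) (rho p (xM 1)) (rho p (hM ζ)) (rho p wM) (inL r) = 1) ∧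
      (∀ r ∈ wordsGlue p ζ wN wL g₁ g₂ c, ev5 (permSL (eN (PresentedGroup.of 0)) : Matrix.SpecialLinearGroup ι F)
        (permSL (eN (PresentedGroup.of 1))) (rho p (xM 1)) (rho p (hM ζ)) (rho p wM) r = 1) ∧
      (∀ σ, (permSL σ : Matrix.SpecialLinearGroup ι F) =
        ev2 (permSL (eN (PresentedGroup.of 0))) (permSL (eN (PresentedGroup.of 1))) (wN σ)) ∧
      ∀ m, (rho p m : Matrix.SpecialLinearGroup ι F) = ev (rho p (xM 1)) (rho p (hM ζ)) (rho p wM) (wL m) :=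
  slnp7_core p ζ relsN eN wN hwN L hLM wL hwL g₁ g₂ c
    (fun a b u h w h4 h5 =>
      words_of_glue p ζ wN wL g₁ g₂ c hg hc a b u h w permSL (rho p) h4 h5 (glue_M p ζ))

end P

end Cfsg.Agent.Lib.helper17.SLN
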