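import Mathlib
import Cfsg.Agent.Lib.Helper24.SLNA5
import Cfsg.Agent.Lib.Helper24.SLNA7
import Cfsg.Agent.Lib.helper17.SLN.P3
import Cfsg.Agent.Lib.helper17.SLN.P5
import Cfsg.Agent.Lib.helper17.SLN.P6
import Cfsg.Agent.Lib.helper17.SLN.P7
import Cfsg.Agent.Lib.helper3.SP4X
import Cfsg.Agent.Lib.helper6.SLPM4
import Cfsg.Agent.Lib.Helper9.SP4H1

set_option autoImplicit false

namespace Cfsg.Agent.Lib.helper17.SLN

open Cfsg.Agent.Lib.helper17.SLP
open Cfsg.Agent.Lib.helper7.St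

universe u v w v'

section P

variable {F : Type u} [Field F] {ι : Type w} [Fintype ι] [DecidableEq ι]

theorem slnp8_len (p : Pts ι) (ζ : Fˣ) (wN : alternatingGroup ι → FreeGroup (Fin 2))
    (wL : Matrix.SpecialLinearGroup (Fin 2) F → FreeGroup (Fin 3)) (g₁ g₂ c : alternatingGroup ι) :
    (wordsGlue p ζ wN wL g₁ g₂ c).length = 28 := by
  simp [wordsGlue, wordsStab, wordsDisj, wordsTor, wordsCom]

theorem sln_pres5 [Fintype F] (p : Pts ι) (relsN : Finset (FreeGroup (Fin 2))) (hcard : relsN.card ≤ 8)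
    (eN : PresentedGroup (↑relsN : Set (FreeGroup (Fin 2))) ≃* alternatingGroup ι) :
    ∃ rels : Finset (FreeGroup (Fin 5)), rels.card ≤ 45 ∧
      Nonempty (PresentedGroup (↑rels : Set (FreeGroup (Fin 5))) ≃* Matrix.SpecialLinearGroup ι F) := by
  classical
  obtain ⟨ζ, hζ'⟩ := IsCyclic.exists_generator (α := Fˣ)
  have hζ : ∀ y : Fˣ, y ∈ Subgroup.zpowers ζ := hζ'
  obtain ⟨L, az, hL9, _, hLM, _, hL⟩ := Cfsg.Agent.Lib.helper3.SP4.sp4x_sl_hom ζ hζ
  have hclM := closure_M ζ hζ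
  have hwL' : ∀ m : Matrix.SpecialLinearGroup (Fin 2) F,
      ∃ r : FreeGroup (Fin 3), ev (xM (1 : F)) (hM ζ) wM r = m :=
    fun m => Cfsg.Agent.Lib.helper3.SP4.exists_word _ _ _ hclM m
  choose wL hwL using hwL'
  have hwN' : ∀ σ : alternatingGroup ι, ∃ x : FreeGroup (Fin 2),
      eN (PresentedGroup.mk (↑relsN : Set (FreeGroup (Fin 2))) x) = σ := by
    intro σ
    obtain ⟨x, hx⟩ := PresentedGroup.mk_surjective (↑relsN : Set (FreeGroup (Fin 2))) (eN.symm σ)
    exact ⟨x, by rw [hx, eN.apply_symm_apply]⟩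
  choose wN hwN using hwN'
  obtain ⟨g₁, g₂, hg, hN0⟩ := N0_gens p
  obtain ⟨c, hc⟩ : ∃ c : alternatingGroup ι, (c : Equiv.Perm ι) = cyc3 p.o0 p.o2 p.o1 :=
    ⟨⟨cyc3 p.o0 p.o2 p.o1, cyc3_mem _ _ _ p.h02 p.h12.symm⟩, rfl⟩
  set W := wordsGlue p ζ wN wL g₁ g₂ c with hW
  set rels : Finset (FreeGroup (Fin 5)) := relsN.image inN ∪ (L.map inL).toFinset ∪ W.toFinset with hrels
  have hmemN : ∀ r ∈ (↑relsN : Set (FreeGroup (Fin 2))), inN r ∈ (↑rels : Set (FreeGroup (Fin 5))) := by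
    intro r hr
    simp only [hrels, Finset.coe_union, Finset.coe_image, Set.mem_union, Set.mem_image, Finset.mem_coe]
    exact Or.inl (Or.inl ⟨r, hr, rfl⟩)
  have hmemL : ∀ r ∈ L, inL r ∈ (↑rels : Set (FreeGroup (Fin 5))) := by
    intro r hr
    simp only [hrels, Finset.coe_union, Set.mem_union, Finset.mem_coe, List.mem_toFinset, List.mem_map]
    exact Or.inl (Or.inr ⟨r, hr, rfl⟩)
  have hmemW : ∀ r ∈ W, r ∈ (↑rels : Set (FreeGroup (Fin 5))) := by
    intro r hr
    simp only [hrels, Finset.coe_union, Set.mem_union, Finset.mem_coe, List.mem_toFinset]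
    exact Or.inr hr
  refine ⟨rels, ?_, ?_⟩
  · have h1 : (relsN.image inN).card ≤ 8 := Finset.card_image_le.trans hcard
    have h2 : (L.map inL).toFinset.card ≤ 9 := by
      refine (List.toFinset_card_le _).trans ?_
      rw [List.length_map]; exact hL9
    have h3 : W.toFinset.card ≤ 28 := by
      refine (List.toFinset_card_le _).trans ?_
      rw [hW, slnp8_len]
    have h4 := Finset.card_union_le (relsN.image inN ∪ (L.map inL).toFinset) W.toFinset
    have h5 := Finset.card_union_le (relsN.image inN) (L.map inL).toFinset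
    rw [hrels]; omega
  · obtain ⟨ν, φ, hν, hφ, hgen, hev⟩ :=
      pres5_abstract ζ (↑relsN : Set (FreeGroup (Fin 2))) eN wN hwN L hL wL hwL
        (↑rels : Set (FreeGroup (Fin 5))) hmemN hmemL
    have hone : ∀ r ∈ (↑rels : Set (FreeGroup (Fin 5))),
        PresentedGroup.mk (↑rels : Set (FreeGroup (Fin 5))) r = 1 := fun r hr => PresentedGroup.one_of_mem hr
    have hrelW : ∀ r ∈ wordsGlue p ζ wN wL g₁ g₂ c,
        ev5 (PresentedGroup.of 0 : PresentedGroup (↑rels : Set (FreeGroup (Fin 5)))) (PresentedGroup.of 1)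
          (PresentedGroup.of 2) (PresentedGroup.of 3) (PresentedGroup.of 4) r = 1 := by
      intro r hr
      rw [hev]
      exact hone r (hmemW r hr)
    have HG : Glue p ζ ν φ :=
      glue_of_words p ζ wN wL g₁ g₂ c hg hN0 hc hclM _ _ _ _ _ ν φ hν hφ hrelW
    obtain ⟨h1, h2, h3, h4, h5⟩ :=
      pres5_matrix p ζ (↑relsN : Set (FreeGroup (Fin 2))) eN wN hwN L hLM wL hwL g₁ g₂ c hg hc
    have hΦrel : ∀ r ∈ (↑rels : Set (FreeGroup (Fin 5))),
        FreeGroup.lift ![(permSL (eN (PresentedGroup.of 0)) : Matrix.SpecialLinearGroup ι F),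
          permSL (eN (PresentedGroup.of 1)), rho p (xM 1), rho p (hM ζ), rho p wM] r = 1 := by
      intro r hr
      simp only [hrels, Finset.coe_union, Finset.coe_image, Set.mem_union, Set.mem_image, Finset.mem_coe,
        List.mem_toFinset, List.mem_map] at hr
      rcases hr with (⟨x, hx, rfl⟩ | ⟨x, hx, rfl⟩) | hr
      · exact h1 x hx
      · exact h2 x hx
      · exact h3 r hr
    set Φ : PresentedGroup (↑rels : Set (FreeGroup (Fin 5))) →* Matrix.SpecialLinearGroup ι F :=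
      PresentedGroup.toGroup hΦrel with hΦ
    have hΦof : ∀ i : Fin 5, Φ (PresentedGroup.of i) =
        ![(permSL (eN (PresentedGroup.of 0)) : Matrix.SpecialLinearGroup ι F),
          permSL (eN (PresentedGroup.of 1)), rho p (xM 1), rho p (hM ζ), rho p wM] i :=
      fun i => PresentedGroup.toGroup.of hΦrel
    have hΦν : ∀ σ, Φ (ν σ) = permSL σ := by
      intro σ
      rw [hν, ev2_map, hΦof 0, hΦof 1, h4 σ]
      rfl
    have hΦφ : ∀ m, Φ (φ m) = rho p m := by
      intro m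
      rw [hφ, Cfsg.Agent.Lib.helper3.SP4.ev_map, hΦof 2, hΦof 3, hΦof 4, h5 m]
      rfl
    exact ⟨MulEquiv.ofBijective Φ (iso_of_glue p ζ hζ ν φ HG hgen Φ hΦν hΦφ)⟩

end P


end Cfsg.Agent.Lib.helper17.SLN
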