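import Mathlib
import Cfsg.Agent.Lib.helper17.SLPMAIN
import Cfsg.Agent.Lib.helper17.SL3X
import Cfsg.Agent.Lib.Helper21.SAPTietze
import Cfsg.Agent.Lib.helper4.SLNP12
import Cfsg.Agent.Lib.helper17.SLN.P13
import Cfsg.Agent.Lib.helper17.SLN.P8

/-!
# SLN row Z1 (`sln_s2290`): S2290 with the `A_n` half of S2284 as a hypothesis
-/

set_option autoImplicit false

namespace Cfsg.Agent.Lib.helper17.SLN

open Cfsg.Agent.Lib.helper17.SLP
open Cfsg.Agent.Lib.helper7.St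

universe u v w v'

/-- core of Z1 on the statements of P8 P12 P13. -/
theorem slnz1_core
    (hP8 : ∀ {F : Type u} [Field F] [Fintype F] {ι : Type} [Fintype ι] [DecidableEq ι] (_p : Pts ι)
      (relsN : Finset (FreeGroup (Fin 2))) (_hcard : relsN.card ≤ 8)
      (_eN : PresentedGroup (↑relsN : Set (FreeGroup (Fin 2))) ≃* alternatingGroup ι),
      ∃ rels : Finset (FreeGroup (Fin 5)), rels.card ≤ 45 ∧
        Nonempty (PresentedGroup (↑rels : Set (FreeGroup (Fin 5))) ≃* Matrix.SpecialLinearGroup ι F))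
    (hP12 : ∀ {F : Type u} [Field F] [Fintype F] (n : ℕ) (_hn : 1 ≤ n),
      ∃ a b : Matrix.ProjectiveSpecialLinearGroup (Fin (n + 1)) F,
        Subgroup.closure ({a, b} : Set (Matrix.ProjectiveSpecialLinearGroup (Fin (n + 1)) F)) = ⊤)
    (hP13 : ∀ {F : Type u} [Field F] [Fintype F] (n : ℕ) (_hn : 1 ≤ n) {m : ℕ} (R : Finset (FreeGroup (Fin m)))
      (k : ℕ) (_hR : R.card ≤ k)
      (_e : PresentedGroup (↑R : Set (FreeGroup (Fin m))) ≃* Matrix.SpecialLinearGroup (Fin (n + 1)) F),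
      ∃ rels : Finset (FreeGroup (Fin 2)), rels.card ≤ k + 3 ∧
        Nonempty (PresentedGroup (↑rels : Set (FreeGroup (Fin 2))) ≃*
          Matrix.ProjectiveSpecialLinearGroup (Fin (n + 1)) F))
    (HN : ∀ n : ℕ, 4 ≤ n → ∃ rels : Finset (FreeGroup (Fin 2)), rels.card ≤ 8 ∧
      Nonempty (PresentedGroup (↑rels : Set (FreeGroup (Fin 2))) ≃* ↥(alternatingGroup (Fin n))))
    {F : Type u} [Field F] [Fintype F] (n : ℕ) (hn : 2 ≤ n) :
    ∃ rels : Finset (FreeGroup (Fin 2)), rels.card ≤ 80 ∧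
      Nonempty (PresentedGroup (↑rels : Set (FreeGroup (Fin 2))) ≃*
        Matrix.ProjectiveSpecialLinearGroup (Fin n) F) := by
  obtain ⟨k, rfl⟩ : ∃ k, n = k + 1 := ⟨n - 1, by omega⟩
  rcases Nat.lt_or_ge k 3 with hk | hk
  · have hk1 : 1 ≤ k := by omega
    interval_cases k
    · obtain ⟨rels, hc, ⟨e⟩⟩ := (Cfsg.Agent.Lib.helper17.SLP.slp_main (F := F)).2.1
      obtain ⟨a, b, hab⟩ := hP12 (F := F) 1 le_rfl
      obtain ⟨rels', hc', e', _⟩ := Cfsg.Agent.Lib.Helper21.SAPT.change_gens_pair rels e a b hab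
      exact ⟨rels', by omega, ⟨e'⟩⟩
    · obtain ⟨rels, hc, ⟨e⟩⟩ := Cfsg.Agent.Lib.helper17.SL3.sl3x_main (F := F)
      obtain ⟨rels', hc', he'⟩ := hP13 (F := F) 2 (by norm_num) rels 14 hc e
      exact ⟨rels', by omega, he'⟩
  · obtain ⟨relsN, hN, ⟨eN⟩⟩ := HN (k + 1) (by omega)
    obtain ⟨rels, hc, ⟨e⟩⟩ := hP8 (F := F) (ptsFin (k + 1) (by omega)) relsN hN eN
    obtain ⟨rels', hc', he'⟩ := hP13 (F := F) k (by omega) rels 45 hc e
    exact ⟨rels', by omega, he'⟩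

theorem sln_s2290
    (HN : ∀ n : ℕ, 4 ≤ n → ∃ rels : Finset (FreeGroup (Fin 2)), rels.card ≤ 8 ∧
      Nonempty (PresentedGroup (↑rels : Set (FreeGroup (Fin 2))) ≃* ↥(alternatingGroup (Fin n))))
    {F : Type u} [Field F] [Fintype F] (n : ℕ) (hn : 2 ≤ n) (_h2 : n = 2 → 4 ≤ Fintype.card F) :
    ∃ rels : Finset (FreeGroup (Fin 2)), rels.card ≤ 80 ∧
      Nonempty (PresentedGroup (↑rels : Set (FreeGroup (Fin 2))) ≃*
        Matrix.ProjectiveSpecialLinearGroup (Fin n) F) :=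
  slnz1_core (fun p relsN hcard eN => sln_pres5 p relsN hcard eN) (fun n hn => psl_two_gen n hn)
    (fun n hn _ R k hR e => psl_pres2 n hn R k hR e) HN n hn


end Cfsg.Agent.Lib.helper17.SLN
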